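import Cfsg.Agent.S2929

/-!
Elementary permutations used for subgroups of symmetric groups containing a Sylow 2-subgroup
of the alternating group: pair products, Klein elements on quads, and the pairing involution.
-/

set_option autoImplicit false

namespace Cfsg.Agent.AltOvergroupTwo

open Equiv Equiv.Perm

variable {n : ℕ}

/-- Transposition of two natural numbers, read in `Fin n`. -/
def sN (n a b : ℕ) : Perm (Fin n) :=
  if h : a < n ∧ b < n then swap ⟨a, h.1⟩ ⟨b, h.2⟩ else 1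

theorem sN_val {a b : ℕ} (ha : a < n) (hb : b < n) (x : Fin n) :
    (sN n a b x).val = if x.val = a then b else if x.val = b then a else x.val := by
  simp only [sN, dif_pos (And.intro ha hb), swap_apply_def, Fin.ext_iff]
  split_ifs <;> simp_all

theorem sN_eq {a b : ℕ} (ha : a < n) (hb : b < n) : sN n a b = swap ⟨a, ha⟩ ⟨b, hb⟩ :=
  dif_pos ⟨ha, hb⟩

/-- Product of the transpositions of the pairs `i` and `j`. -/
def cPair (n i j : ℕ) : Perm (Fin n) := sN n (2 * i) (2 * i + 1) * sN n (2 * j) (2 * j + 1)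

/-- The element `(4i, 4i+2)(4i+1, 4i+3)`. -/
def qQuad (n i : ℕ) : Perm (Fin n) := sN n (4 * i) (4 * i + 2) * sN n (4 * i + 1) (4 * i + 3)

theorem cPair_val {i j : ℕ} (hi : 2 * i + 1 < n) (hj : 2 * j + 1 < n) (hij : i ≠ j) (x : Fin n) :
    (cPair n i j x).val =
      if x.val / 2 = i ∨ x.val / 2 = j then (if x.val % 2 = 0 then x.val + 1 else x.val - 1) else x.val := by
  rw [cPair, mul_apply, sN_val (by omega) hi, sN_val (by omega) hj]
  split_ifs <;> omega

theorem qQuad_val {i : ℕ} (hi : 4 * i + 3 < n) (x : Fin n) :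
    (qQuad n i x).val =
      if x.val / 4 = i then (if x.val % 4 < 2 then x.val + 2 else x.val - 2) else x.val := by
  rw [qQuad, mul_apply, sN_val (by omega) (by omega), sN_val (by omega) hi]
  split_ifs <;> omega

/-- The map exchanging the points of the first `k` pairs. -/
def flipF (n k : ℕ) (x : Fin n) : Fin n :=
  if h : x.val < 2 * k ∧ 2 * k ≤ n then
    ⟨if x.val % 2 = 0 then x.val + 1 else x.val - 1, by split <;> omega⟩ else x

theorem flipF_val {k : ℕ} (x : Fin n) :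
    (flipF n k x).val = if x.val < 2 * k ∧ 2 * k ≤ n then (if x.val % 2 = 0 then x.val + 1 else x.val - 1) else x.val := by
  unfold flipF
  split_ifs <;> rfl

theorem flipF_flipF (n k : ℕ) (x : Fin n) : flipF n k (flipF n k x) = x := by
  apply Fin.ext
  simp only [flipF_val]
  split_ifs <;> omega

/-- The involution exchanging the points of the first `k` pairs. -/
def flipP (n k : ℕ) : Perm (Fin n) := ⟨flipF n k, flipF n k, flipF_flipF n k, flipF_flipF n k⟩

theorem flipP_val {k : ℕ} (hk : 2 * k ≤ n) (x : Fin n) :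
    (flipP n k x).val = if x.val < 2 * k then (if x.val % 2 = 0 then x.val + 1 else x.val - 1) else x.val := by
  show (flipF n k x).val = _
  rw [flipF_val]
  by_cases h : x.val < 2 * k
  · rw [if_pos ⟨h, hk⟩, if_pos h]
  · rw [if_neg (fun hh => h hh.1), if_neg h]

theorem flipP_flipP {k : ℕ} (x : Fin n) : flipP n k (flipP n k x) = x := flipF_flipF n k x

theorem flipP_ne {k : ℕ} (hk : 2 * k ≤ n) {x : Fin n} (hx : x.val < 2 * k) : flipP n k x ≠ x := by
  intro h
  have := congrArg Fin.val h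
  rw [flipP_val hk, if_pos hx] at this
  split_ifs at this <;> omega

theorem flipP_div_eq {k : ℕ} (hk : 2 * k ≤ n) (x : Fin n) : (flipP n k x).val / 2 = x.val / 2 := by
  rw [flipP_val hk]
  split_ifs <;> omega

theorem eq_or_eq_flipP {k : ℕ} (hk : 2 * k ≤ n) {x y : Fin n} (hx : x.val < 2 * k)
    (h : y.val / 2 = x.val / 2) : y = x ∨ y = flipP n k x := by
  simp only [Fin.ext_iff, flipP_val hk, if_pos hx]
  split_ifs <;> omega

/-- Products of two disjoint transpositions. -/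
def IsD (d : Perm (Fin n)) : Prop :=
  ∃ a b c e : Fin n, a ≠ b ∧ a ≠ c ∧ a ≠ e ∧ b ≠ c ∧ b ≠ e ∧ c ≠ e ∧ d = swap a b * swap c e

theorem IsD.conj {d : Perm (Fin n)} (h : IsD d) (g : Perm (Fin n)) : IsD (g * d * g⁻¹) := by
  obtain ⟨a, b, c, e, h1, h2, h3, h4, h5, h6, rfl⟩ := h
  refine ⟨g a, g b, g c, g e, g.injective.ne h1, g.injective.ne h2, g.injective.ne h3, g.injective.ne h4,
    g.injective.ne h5, g.injective.ne h6, ?_⟩
  rw [← conj_mul, ← swap_apply_apply, ← swap_apply_apply]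

theorem commute_swap_swap {a b c e : Fin n} (h1 : a ≠ c) (h2 : a ≠ e) (h3 : b ≠ c) (h4 : b ≠ e) :
    Commute (swap a b) (swap c e) := by
  refine Disjoint.commute fun x => ?_
  by_cases ha : x = a
  · exact Or.inr (swap_apply_of_ne_of_ne (ha ▸ h1) (ha ▸ h2))
  · by_cases hb : x = b
    · exact Or.inr (swap_apply_of_ne_of_ne (hb ▸ h3) (hb ▸ h4))
    · exact Or.inl (swap_apply_of_ne_of_ne ha hb)

theorem IsD.mul_self {d : Perm (Fin n)} (h : IsD d) : d * d = 1 := by
  obtain ⟨a, b, c, e, -, h2, h3, h4, h5, -, rfl⟩ := h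
  rw [(commute_swap_swap h2 h3 h4 h5).symm.mul_mul_mul_comm, swap_mul_self, swap_mul_self, one_mul]

/-- Normal form of a double transposition at a moved point. -/
theorem IsD.form {d : Perm (Fin n)} (h : IsD d) {a : Fin n} (ha : d a ≠ a) :
    ∃ b c e : Fin n, a ≠ b ∧ a ≠ c ∧ a ≠ e ∧ b ≠ c ∧ b ≠ e ∧ c ≠ e ∧ d = swap a b * swap c e := by
  obtain ⟨w, x, y, z, h1, h2, h3, h4, h5, h6, rfl⟩ := h
  by_cases hw : a = w
  · subst hw; exact ⟨x, y, z, h1, h2, h3, h4, h5, h6, rfl⟩
  by_cases hx : a = x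
  · subst hx; exact ⟨w, y, z, h1.symm, h4, h5, h2, h3, h6, by rw [swap_comm w a]⟩
  by_cases hy : a = y
  · subst hy; exact ⟨z, w, x, h6, h2.symm, h4.symm, h3.symm, h5.symm, h1, (commute_swap_swap h2 h3 h4 h5).eq⟩
  by_cases hz : a = z
  · subst hz; exact ⟨y, w, x, h6.symm, h3.symm, h5.symm, h2.symm, h4.symm, h1,
      by rw [swap_comm a y]; exact (commute_swap_swap h2 h3 h4 h5).eq⟩
  exact absurd (by rw [mul_apply, swap_apply_of_ne_of_ne hy hz, swap_apply_of_ne_of_ne hw hx]) ha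

theorem swap_swap_apply {a b c e : Fin n} (hac : a ≠ c) (hae : a ≠ e) : (swap a b * swap c e : Perm (Fin n)) a = b := by
  rw [mul_apply, swap_apply_of_ne_of_ne hac hae, swap_apply_left]

theorem swap_swap_apply' {a b c e x : Fin n} (ha : x ≠ a) (hb : x ≠ b) (hc : x ≠ c) (he : x ≠ e) :
    (swap a b * swap c e : Perm (Fin n)) x = x := by
  rw [mul_apply, swap_apply_of_ne_of_ne hc he, swap_apply_of_ne_of_ne ha hb]

theorem cPair_isD {i j : ℕ} (hi : 2 * i + 1 < n) (hj : 2 * j + 1 < n) (hij : i ≠ j) : IsD (cPair n i j) := by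
  refine ⟨⟨2 * i, by omega⟩, ⟨2 * i + 1, hi⟩, ⟨2 * j, by omega⟩, ⟨2 * j + 1, hj⟩, ?_, ?_, ?_, ?_, ?_, ?_, ?_⟩
  case refine_7 => exact congrArg₂ (· * ·) (sN_eq _ _) (sN_eq _ _)
  all_goals (simp [Fin.ext_iff])
  all_goals omega

theorem qQuad_isD {i : ℕ} (hi : 4 * i + 3 < n) : IsD (qQuad n i) := by
  refine ⟨⟨4 * i, by omega⟩, ⟨4 * i + 2, by omega⟩, ⟨4 * i + 1, by omega⟩, ⟨4 * i + 3, hi⟩, ?_, ?_, ?_, ?_, ?_, ?_, ?_⟩
  case refine_7 => exact congrArg₂ (· * ·) (sN_eq _ _) (sN_eq _ _)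
  all_goals (simp [Fin.ext_iff])
  all_goals omega

end Cfsg.Agent.AltOvergroupTwo
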