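import Cfsg.Agent.AltOvergroupTwo.Solv

/-!
A quasisimple self-centralizing normal subgroup of a group with all pair products and Klein
elements is alternating on all quads.
-/

set_option autoImplicit false

namespace Cfsg.Agent.AltOvergroupTwo

open Equiv Equiv.Perm

variable {n : ℕ}

theorem alternating_card_ge (hn : 8 ≤ n) (H : Subgroup (Perm (Fin n))) (E : Subgroup ↥H) [hEn : E.Normal]
    (hF : Cfsg.IsQuasisimple ↥E) (hcent : Subgroup.centralizer (E : Set ↥H) ≤ E)
    (hC : ∀ i j, i < n / 2 → j < n / 2 → i ≠ j → cPair n i j ∈ H) (hQ : ∀ i, i < n / 4 → qQuad n i ∈ H) :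
    ∃ m, 4 * (n / 4) ≤ m ∧ m ≤ n ∧ Nonempty (↥E ≃* ↥(alternatingGroup (Fin m))) := by
  by_cases hG : Good H
  · exfalso
    by_cases h10 : 10 ≤ n
    · obtain ⟨k, h4, hk, hk', hkl, hall⟩ := large_common h10 hC hG
      exact false_of_pairing hF hcent h4 hk (by omega)
        (fun i j hi hj hij => hC i j (by omega) (by omega) hij) hall
    · obtain ⟨s, hall⟩ := small_common hn (by omega) hC hG
      exact false_of_translations hF hcent hn (by omega) s hC hQ hall
  unfold Good at hG
  push Not at hG
  obtain ⟨c, hcH, hc3, x₀, hx₀, hcx₀⟩ := hG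
  obtain ⟨p, dp, f, hf, hpx₀, hsub, hfv, hdi, k₀, hk₀⟩ := S2929.exists_block H hcH hc3 hcx₀
  have hp3 : ∀ x, p x → ∃ y z, p y ∧ p z ∧ x ≠ y ∧ x ≠ z ∧ y ≠ z := by
    intro x hx
    have hsupp : ∀ w, c w ≠ w → p w :=
      (hdi c hcH hc3).resolve_right fun h => h x₀ hcx₀ hpx₀
    obtain ⟨a1, a2, a3, h12, h13, h23, hs⟩ := Finset.card_eq_three.1 hc3.card_support
    have hm : ∀ w, w ∈ ({a1, a2, a3} : Finset (Fin n)) → p w := fun w hw => hsupp w (mem_support.1 (hs ▸ hw))
    have h1 := hm a1 (by simp)
    have h2 := hm a2 (by simp)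
    have h3 := hm a3 (by simp)
    by_cases e1 : x = a1
    · exact ⟨a2, a3, h2, h3, e1 ▸ h12, e1 ▸ h13, h23⟩
    by_cases e2 : x = a2
    · exact ⟨a1, a3, h1, h3, e1, e2 ▸ h23, h13⟩
    exact ⟨a1, a2, h1, h2, e1, e2, h12⟩
  -- double transpositions of `H` preserve the block
  have hpres : ∀ d ∈ H, IsD d → ∀ x, p x → p (d x) := by
    intro d hdH hd x hx
    by_contra hdx
    have hdd : ∀ y, d (d y) = y := fun y => congrArg (fun g : Perm (Fin n) => g y) hd.mul_self
    have hall : ∀ y, p y → ¬ p (d y) := by
      intro y hy hdy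
      have hxy : x ≠ y := fun h => hdx (h ▸ hdy)
      obtain ⟨w, hw, hwx, hwy⟩ : ∃ w, p w ∧ w ≠ x ∧ w ≠ y := by
        obtain ⟨y', z', hy', hz', h1, h2, h3⟩ := hp3 x hx
        by_cases hh : y' = y
        · exact ⟨z', hz', h2.symm, hh ▸ h3.symm⟩
        · exact ⟨y', hy', h1.symm, hh⟩
      let X : {v // p v} := ⟨x, hx⟩
      let Y : {v // p v} := ⟨y, hy⟩
      let W : {v // p v} := ⟨w, hw⟩
      have he : (swap X Y * swap X W : Perm {v // p v}).IsThreeCycle :=
        isThreeCycle_swap_mul_swap_same (fun h => hxy (congrArg Subtype.val h))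
          (fun h => hwx (congrArg Subtype.val h).symm) (fun h => hwy (congrArg Subtype.val h).symm)
      let e : ↥H := f ⟨_, he.mem_alternatingGroup⟩
      have he3 : (e : Perm (Fin n)).IsThreeCycle := by
        show cycleType _ = {3}
        rw [hfv, cycleType_ofSubtype]
        exact he
      have hmv : ∀ v : {v // p v}, (swap X Y * swap X W : Perm {v // p v}) v ≠ v → (e : Perm (Fin n)) v ≠ v := by
        intro v hv h
        rw [hfv, ofSubtype_apply_coe] at h
        exact hv (Subtype.ext h)
      have hex : (e : Perm (Fin n)) x ≠ x := hmv X (by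
        rw [mul_apply, swap_apply_left,
          swap_apply_of_ne_of_ne (fun h => hwx (congrArg Subtype.val h)) (fun h => hwy (congrArg Subtype.val h))]
        exact fun h => hwx (congrArg Subtype.val h))
      have hey : (e : Perm (Fin n)) y ≠ y := hmv Y (by
        rw [mul_apply, swap_apply_of_ne_of_ne (fun h : Y = X => hxy (congrArg Subtype.val h).symm)
          (fun h : Y = W => hwy (congrArg Subtype.val h).symm), swap_apply_right]
        exact fun h => hxy (congrArg Subtype.val h))
      have hd'3 : (d * (e : Perm (Fin n)) * d⁻¹).IsThreeCycle := by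
        show cycleType _ = {3}
        rw [cycleType_conj]
        exact he3
      have hd'm : ∀ v, (e : Perm (Fin n)) v ≠ v → (d * (e : Perm (Fin n)) * d⁻¹) (d v) ≠ d v := by
        intro v hv
        simp only [mul_apply, coe_inv, symm_apply_apply]
        exact fun h => hv (d.injective h)
      rcases hdi _ (H.mul_mem (H.mul_mem hdH e.2) (H.inv_mem hdH)) hd'3 with h | h
      · exact hdx (h _ (hd'm x hex))
      · exact h _ (hd'm y hey) hdy
    obtain ⟨y', z', hy', hz', h1, h2, h3⟩ := hp3 x hx
    obtain ⟨a, b, c', e, -, -, -, -, -, -, hdeq⟩ := hd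
    have hne : ∀ v u, p v → p u → d v ≠ u := fun v u hv hu h => hall v hv (h ▸ hu)
    have h6 : ({x, y', z', d x, d y', d z'} : Finset (Fin n)) ⊆ {a, b, c', e} := by
      intro v hv
      have hvm : d v ≠ v := by
        simp only [Finset.mem_insert, Finset.mem_singleton] at hv
        rcases hv with rfl | rfl | rfl | rfl | rfl | rfl
        · exact hne _ _ hx hx
        · exact hne _ _ hy' hy'
        · exact hne _ _ hz' hz'
        · rw [hdd]; exact (hne _ _ hx hx).symm
        · rw [hdd]; exact (hne _ _ hy' hy').symm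
        · rw [hdd]; exact (hne _ _ hz' hz').symm
      by_contra hcon
      simp only [Finset.mem_insert, Finset.mem_singleton, not_or] at hcon
      exact hvm (by rw [hdeq]; exact swap_swap_apply' hcon.1 hcon.2.1 hcon.2.2.1 hcon.2.2.2)
    have hcard : ({x, y', z', d x, d y', d z'} : Finset (Fin n)).card = 6 := by
      rw [Finset.card_insert_of_notMem, Finset.card_insert_of_notMem, Finset.card_insert_of_notMem,
        Finset.card_insert_of_notMem, Finset.card_insert_of_notMem, Finset.card_singleton] <;>
        simp only [Finset.mem_insert, Finset.mem_singleton, not_or] <;>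
        repeat' constructor
      all_goals first
        | assumption
        | exact fun h => h1 (d.injective h)
        | exact fun h => h2 (d.injective h)
        | exact fun h => h3 (d.injective h)
        | exact (hne _ _ ‹_› ‹_›).symm
    have := Finset.card_le_card h6
    have h4 : ({a, b, c', e} : Finset (Fin n)).card ≤ 4 := Finset.card_le_four
    omega
  -- the block is a union of quads, and contains one
  have hquad : ∀ y, p y → y.val < 4 * (n / 4) → ∀ w : Fin n, w.val / 4 = y.val / 4 → p w := by
    intro y hy hy4 w hw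
    have hqz : ∀ v : Fin n, p v → v.val < 4 * (n / 4) → ∀ u : Fin n,
        (u.val / 2 = v.val / 2 ∨ (u.val / 4 = v.val / 4 ∧ u.val % 2 = v.val % 2)) → p u := by
      intro v hv hv4 u hu
      by_cases huv : u = v
      · exact huv ▸ hv
      have huv' : u.val ≠ v.val := fun h => huv (Fin.ext h)
      rcases hu with hu | ⟨hu, hu2⟩
      · obtain ⟨j, hj, hne⟩ : ∃ j, j < n / 2 ∧ v.val / 2 ≠ j := by
          by_cases h0 : v.val / 2 = 0
          · exact ⟨1, by omega, by omega⟩
          · exact ⟨0, by omega, h0⟩
        have hval := cPair_val (n := n) (i := v.val / 2) (j := j) (by omega) (by omega) hne v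
        rw [if_pos (Or.inl rfl)] at hval
        have hu' : cPair n (v.val / 2) j v = u := Fin.ext (by rw [hval]; split_ifs <;> omega)
        exact hu' ▸ hpres _ (hC _ _ (by omega) hj hne) (cPair_isD (by omega) (by omega) hne) v hv
      · have hval := qQuad_val (n := n) (i := v.val / 4) (by omega) v
        rw [if_pos rfl] at hval
        have hu' : qQuad n (v.val / 4) v = u := Fin.ext (by rw [hval]; split_ifs <;> omega)
        exact hu' ▸ hpres _ (hQ _ (by omega)) (qQuad_isD (by omega)) v hv
    by_cases h2 : w.val / 2 = y.val / 2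
    · exact hqz y hy hy4 w (Or.inl h2)
    · let m : Fin n := ⟨4 * (y.val / 4) + 2 * (w.val / 2 % 2) + y.val % 2, by omega⟩
      have hm : m.val = 4 * (y.val / 4) + 2 * (w.val / 2 % 2) + y.val % 2 := rfl
      exact hqz m (hqz y hy hy4 m (Or.inr ⟨by omega, by omega⟩)) (by omega) w (Or.inl (by omega))
  let ι : Fin 4 → {v // p v} := fun t =>
    ⟨⟨4 * (x₀.val / 4) + t.val, by omega⟩, hquad x₀ hpx₀ hx₀ _ (by show (4 * _ + t.val) / 4 = _; omega)⟩
  have h4 : 4 ≤ Fintype.card {v // p v} := by
    simpa using Fintype.card_le_of_injective ι fun s t hst => Fin.ext (by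
      have := congrArg (fun z : {v // p v} => z.1.val) hst
      simp only [ι] at this
      omega)
  have hEc : Cfsg.IsComponent E := ⟨hEn.isSubnormal, hF⟩
  by_cases h5 : 5 ≤ Nat.card {v // p v}
  swap
  · exfalso
    rw [Nat.card_eq_fintype_card] at h5
    have hsolv : Group.IsSolvable f.range := by
      haveI := S2929.isSolvable_alt_of_le_four (β := {v // p v}) (by omega)
      exact Group.isSolvable_of_surjective (f := f.rangeRestrict) f.rangeRestrict_surjective
    obtain ⟨hR1, hR2⟩ := le_E_of_solvable hF hcent hsub hsolv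
    haveI : Nontrivial (alternatingGroup {v // p v}) := alternatingGroup.nontrivial_of_three_le_card (by
      rw [Nat.card_eq_fintype_card]; omega)
    apply bot_ne_top (α := Subgroup (alternatingGroup {v // p v}))
    rw [← alternatingGroup.center_eq_bot (α := {v // p v}) (by rw [Nat.card_eq_fintype_card]; omega), eq_top_iff]
    intro u _
    rw [Subgroup.mem_center_iff]
    intro v
    refine hf ?_
    rw [map_mul, map_mul]
    exact Subgroup.mem_centralizer_iff.1 (hR2 ⟨u, rfl⟩) _ (hR1 ⟨v, rfl⟩)
  have hKc : Cfsg.IsComponent f.range :=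
    ⟨hsub, CfsgLib.Comp.isQuasisimple_of_equiv (MonoidHom.ofInjective hf) (S2929.isQuasisimple_alt h5)⟩
  have hEK : f.range = E := by
    rcases CfsgLib.Comp.component_eq_or_commute hKc hEc with h | h
    · exact h
    · exact CfsgLib.Comp.component_le_eq hKc hEc
        ((CfsgLib.Comp.le_centralizer_of_commutator_eq_bot h).trans hcent)
  have hall : ∀ y : Fin n, y.val < 4 * (n / 4) → p y := by
    intro y hy
    by_contra hpy
    have hout : ∀ w : Fin n, w.val / 4 = y.val / 4 → ¬ p w := fun w hw hpw =>
      hpy (hquad w hpw (by omega) y hw.symm)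
    have hqf : ∀ v, p v → qQuad n (y.val / 4) v = v := fun v hv => Fin.ext (by
      rw [qQuad_val (by omega), if_neg (fun h => hout v h hv)])
    have hqE : (⟨_, hQ (y.val / 4) (by omega)⟩ : ↥H) ∈ f.range := by
      rw [hEK]
      apply hcent
      rw [Subgroup.mem_centralizer_iff, ← hEK]
      rintro _ ⟨g, rfl⟩
      apply Subtype.ext
      show ((f g : ↥H) : Perm (Fin n)) * qQuad n (y.val / 4) = qQuad n (y.val / 4) * _
      rw [hfv]
      refine (Disjoint.commute fun v => ?_).eq
      by_cases hv : p v
      · exact Or.inr (hqf v hv)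
      · exact Or.inl (ofSubtype_apply_of_not_mem _ hv)
    obtain ⟨g, hg⟩ := hqE
    have hg' : ofSubtype (g : Perm {v // p v}) = qQuad n (y.val / 4) := by rw [← hfv, hg]
    have h7 : (qQuad n (y.val / 4) y).val = y.val := by rw [← hg', ofSubtype_apply_of_not_mem _ hpy]
    rw [qQuad_val (by omega), if_pos rfl] at h7
    split_ifs at h7 <;> omega
  refine ⟨Fintype.card {v // p v}, ?_, (Fintype.card_subtype_le _).trans_eq (Fintype.card_fin n), ⟨?_⟩⟩
  · simpa using Fintype.card_le_of_injective
      (fun x : Fin (4 * (n / 4)) => (⟨⟨x.val, by omega⟩, hall _ x.2⟩ : {v // p v}))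
      (fun x y h => Fin.ext (congrArg (fun z : {v // p v} => z.1.val) h))
  · exact ((MulEquiv.subgroupCongr hEK.symm).trans (MonoidHom.ofInjective hf).symm).trans
      (Equiv.altCongrHom (Fintype.equivFin _))

/-- The group preserving each block of four points and commuting with the pairing. -/
def quadGroup (n : ℕ) : Subgroup (Perm (Fin n)) where
  carrier := {g | ∀ x, (g x).val / 4 = x.val / 4 ∧ g (flipP n (n / 2) x) = flipP n (n / 2) (g x)}
  one_mem' := fun _ => ⟨rfl, rfl⟩
  mul_mem' := fun {g h} hg hh x => by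
    simp only [mul_apply]
    exact ⟨(hg _).1.trans (hh x).1, by rw [(hh x).2, (hg _).2]⟩
  inv_mem' := fun {g} hg x => by
    have h1 := hg (g⁻¹ x)
    rw [show g (g⁻¹ x) = x from g.apply_symm_apply x] at h1
    exact ⟨h1.1.symm, Equiv.Perm.inv_eq_iff_eq.2 h1.2.symm⟩

theorem quadGroup_pow_four {g : Perm (Fin n)} (hg : g ∈ quadGroup n) : g ^ 4 = 1 := by
  have hk : 2 * (n / 2) ≤ n := by omega
  refine Equiv.ext fun x => ?_
  simp only [pow_succ', pow_zero, mul_one, mul_apply, one_apply]
  by_cases hx : x.val < 2 * (n / 2)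
  swap
  · have hzx : flipP n (n / 2) x = x := Fin.ext (by rw [flipP_val hk, if_neg hx])
    have h1 := (hg x).2
    rw [hzx] at h1
    have h2 : ¬ (g x).val < 2 * (n / 2) := fun hlt => flipP_ne hk hlt h1.symm
    have h3 : g x = x := Fin.ext (by omega)
    rw [h3, h3, h3, h3]
  have hpair : ∀ y : Fin n, y.val < 2 * (n / 2) → (g y).val < 2 * (n / 2) := by
    intro y hy
    by_contra hge
    have hz : flipP n (n / 2) (g y) = g y := Fin.ext (by rw [flipP_val hk, if_neg hge])
    rw [← (hg y).2] at hz
    exact flipP_ne hk hy (g.injective hz)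
  have hx1 := hpair x hx
  have key : g (g x) = x ∨ g (g x) = flipP n (n / 2) x := by
    refine eq_or_eq_flipP hk hx ?_
    by_cases hsame : (g x).val / 2 = x.val / 2
    · rcases eq_or_eq_flipP hk hx hsame with h | h
      · rw [h, h]
      · rw [h, (hg x).2, h, flipP_flipP]
    · have hne : (g (g x)).val / 2 ≠ (g x).val / 2 := by
        intro h2
        rcases eq_or_eq_flipP hk hx1 h2 with h | h
        · exact hsame (by rw [g.injective h])
        · rw [← (hg x).2] at h
          exact hsame (by rw [g.injective h, flipP_div_eq hk])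
      have h3 := (hg x).1
      have h4 := (hg (g x)).1
      omega
  rcases key with h | h
  · rw [h, h]
  · rw [h, (hg _).2, (hg _).2, h, flipP_flipP]

theorem cPair_mem_quadGroup {i j : ℕ} (hi : i < n / 2) (hj : j < n / 2) (hij : i ≠ j) :
    cPair n i j ∈ quadGroup n := by
  intro x
  constructor
  · rw [cPair_val (by omega) (by omega) hij]
    split_ifs <;> omega
  · apply Fin.ext
    simp only [cPair_val (n := n) (i := i) (j := j) (by omega) (by omega) hij, flipP_val (k := n / 2) (n := n) (by omega)]
    split_ifs <;> omega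

theorem qQuad_mem_quadGroup {i : ℕ} (hi : i < n / 4) : qQuad n i ∈ quadGroup n := by
  intro x
  constructor
  · rw [qQuad_val (by omega)]
    split_ifs <;> omega
  · apply Fin.ext
    simp only [qQuad_val (n := n) (i := i) (by omega), flipP_val (k := n / 2) (n := n) (by omega)]
    split_ifs <;> omega

end Cfsg.Agent.AltOvergroupTwo
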