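import Cfsg.Agent.AltOvergroupTwo.Eight

/-!
Double transpositions in a group with all pair products and without suitable three-cycles.
-/

set_option autoImplicit false

namespace Cfsg.Agent.AltOvergroupTwo

open Equiv Equiv.Perm

variable {n : ℕ}

/-- No three-cycle of `H` moves a point of a quad. -/
def Good (H : Subgroup (Perm (Fin n))) : Prop :=
  ∀ c ∈ H, c.IsThreeCycle → ∀ x : Fin n, x.val < 4 * (n / 4) → c x = x

theorem three_cycle_of_touch {a b c e a' u u' : Fin n} (hab : a ≠ b) (hac : a ≠ c) (hae : a ≠ e) (hbc : b ≠ c)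
    (hbe : b ≠ e) (ha'a : a' ≠ a) (ha'b : a' ≠ b) (ha'c : a' ≠ c) (ha'e : a' ≠ e)
    (hua : u ≠ a) (hub : u ≠ b) (huc : u ≠ c) (hue : u ≠ e) (hua' : u ≠ a')
    (hva : u' ≠ a) (hvb : u' ≠ b) (hvc : u' ≠ c) (hve : u' ≠ e) (hva' : u' ≠ a') :
    let x := (swap a b * swap c e) * (swap a a' * swap u u') * ((swap a b * swap c e) * (swap a a' * swap u u'))
    x.IsThreeCycle ∧ x a ≠ a ∧ x b ≠ b ∧ x a' ≠ a' := by
  intro x
  have h1 : Commute (swap c e) (swap a a') := commute_swap_swap hac.symm ha'c.symm hae.symm ha'e.symm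
  have h2 : Commute (swap a b * swap a a') (swap c e) :=
    (commute_swap_swap hac hae hbc hbe).mul_left (commute_swap_swap hac hae ha'c ha'e)
  have h3 : Commute (swap a b * swap a a') (swap u u') :=
    (commute_swap_swap hua.symm hva.symm hub.symm hvb.symm).mul_left
      (commute_swap_swap hua.symm hva.symm hua'.symm hva'.symm)
  have h4 : Commute (swap c e) (swap u u') := commute_swap_swap huc.symm hvc.symm hue.symm hve.symm
  have hy : (swap a b * swap c e) * (swap a a' * swap u u') =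
      (swap a b * swap a a') * (swap c e * swap u u') := h1.mul_mul_mul_comm _ _
  have hx : x = (swap a b * swap a a') * (swap a b * swap a a') := by
    show _ * _ = _
    rw [hy, (h2.mul_right h3).symm.mul_mul_mul_comm, h4.symm.mul_mul_mul_comm, swap_mul_self, swap_mul_self,
      mul_one, mul_one]
  have h3c : (swap a b * swap a a').IsThreeCycle := isThreeCycle_swap_mul_swap_same hab ha'a.symm ha'b.symm
  have hmove : ∀ z, (swap a b * swap a a') z ≠ z → x z ≠ z := by
    intro z hz h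
    apply hz
    have hh : (swap a b * swap a a') ^ 3 = 1 := by rw [← h3c.orderOf]; exact pow_orderOf_eq_one _
    rw [hx] at h
    have := congrArg (fun g : Perm (Fin n) => g z) hh
    simp only [pow_succ', pow_zero, mul_one, mul_apply, one_apply] at this h ⊢
    rw [h] at this
    exact this
  refine ⟨hx ▸ h3c.isThreeCycle_sq, hmove a ?_, hmove b ?_, hmove a' ?_⟩
  · rw [mul_apply, swap_apply_left, swap_apply_of_ne_of_ne ha'a ha'b]; exact ha'a
  · rw [mul_apply, swap_apply_of_ne_of_ne hab.symm (Ne.symm ha'b), swap_apply_right]; exact hab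
  · rw [mul_apply, swap_apply_right, swap_apply_left]; exact Ne.symm ha'b

/-- An untouched pair. -/
theorem exists_untouched {a b c e : Fin n} (h : 5 ≤ n / 2 ∨ 2 * (n / 2) ≤ a.val ∨ 2 * (n / 2) ≤ b.val ∨
    2 * (n / 2) ≤ c.val ∨ 2 * (n / 2) ≤ e.val) (h4 : 4 ≤ n / 2) :
    ∃ i, i < n / 2 ∧ i ≠ a.val / 2 ∧ i ≠ b.val / 2 ∧ i ≠ c.val / 2 ∧ i ≠ e.val / 2 := by
  classical
  by_contra hcon
  push Not at hcon
  have hsub : Finset.range (n / 2) ⊆ ({a.val / 2, b.val / 2, c.val / 2, e.val / 2} : Finset ℕ) := by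
    intro i hi
    simp only [Finset.mem_range] at hi
    simp only [Finset.mem_insert, Finset.mem_singleton]
    by_contra hne
    push Not at hne
    exact hne.2.2.2 (hcon i hi hne.1 hne.2.1 hne.2.2.1)
  have hc := Finset.card_le_card hsub
  rw [Finset.card_range] at hc
  have h4' : ({a.val / 2, b.val / 2, c.val / 2, e.val / 2} : Finset ℕ).card ≤ 4 := Finset.card_le_four
  rcases h with h | h
  · omega
  · have hlt : Finset.range (n / 2) ⊂ ({a.val / 2, b.val / 2, c.val / 2, e.val / 2} : Finset ℕ) := by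
      refine (Finset.ssubset_iff_of_subset hsub).2 ⟨n / 2, ?_, by simp⟩
      have := a.isLt; have := b.isLt; have := c.isLt; have := e.isLt
      simp only [Finset.mem_insert, Finset.mem_singleton]
      omega
    have := Finset.card_lt_card hlt
    rw [Finset.card_range] at this
    omega

variable {H : Subgroup (Perm (Fin n))}

/-- A moved point whose partner is fixed gives a three-cycle. -/
theorem not_good_of_touched (hC : ∀ i j, i < n / 2 → j < n / 2 → i ≠ j → cPair n i j ∈ H) (hG : Good H)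
    {d : Perm (Fin n)} (hdH : d ∈ H) (hd : IsD d) {x : Fin n} (hx : x.val < 2 * (n / 2)) (hdx : d x ≠ x)
    (hfix : d (flipP n (n / 2) x) = flipP n (n / 2) x) (h4 : 4 ≤ n / 2)
    (hun : 5 ≤ n / 2 ∨ ∃ y : Fin n, d y ≠ y ∧ 2 * (n / 2) ≤ y.val) :
    4 * (n / 4) ≤ x.val ∧ 4 * (n / 4) ≤ (d x).val := by
  have hk : 2 * (n / 2) ≤ n := by omega
  obtain ⟨b, c, e, h1, h2, h3, h4', h5, h6, rfl⟩ := hd.form hdx
  have hdb : (swap x b * swap c e : Perm (Fin n)) x = b := swap_swap_apply h2 h3
  set a' := flipP n (n / 2) x with ha'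
  have hmv : ∀ y : Fin n, y = x ∨ y = b ∨ y = c ∨ y = e → (swap x b * swap c e : Perm (Fin n)) y ≠ y := by
    rintro y (rfl | rfl | rfl | rfl)
    · rw [hdb]; exact h1.symm
    · rw [mul_apply, swap_apply_of_ne_of_ne h4' h5, swap_apply_right]; exact h1
    · rw [mul_apply, swap_apply_left, swap_apply_of_ne_of_ne h3.symm h5.symm]; exact h6.symm
    · rw [mul_apply, swap_apply_right, swap_apply_of_ne_of_ne h2.symm h4'.symm]; exact h6
  have hne : ∀ y : Fin n, y = x ∨ y = b ∨ y = c ∨ y = e → a' ≠ y := fun y hy h => hmv y hy (h ▸ hfix)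
  obtain ⟨i, hi, hia, hib, hic, hie⟩ := exists_untouched (a := x) (b := b) (c := c) (e := e) (by
    refine hun.imp_right fun ⟨y, hy, hy'⟩ => ?_
    by_contra hcon
    push Not at hcon
    refine hy (swap_swap_apply' ?_ ?_ ?_ ?_) <;> rintro rfl <;> omega) h4
  let u : Fin n := ⟨2 * i, by omega⟩
  let u' : Fin n := ⟨2 * i + 1, by omega⟩
  have hu : u.val / 2 = i := by show 2 * i / 2 = i; omega
  have hu' : u'.val / 2 = i := by show (2 * i + 1) / 2 = i; omega
  have hne2 : ∀ v w : Fin n, v.val / 2 = i → i ≠ w.val / 2 → v ≠ w := fun v w hv hw h => hw (h ▸ hv.symm)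
  have ha'2 : i ≠ a'.val / 2 := by rw [ha', flipP_div_eq hk]; exact hia
  obtain ⟨h3c, hmx, hmb, hma⟩ := three_cycle_of_touch (a' := a') (u := u) (u' := u') h1 h2 h3 h4' h5
    (hne x (Or.inl rfl)) (hne b (Or.inr (Or.inl rfl))) (hne c (Or.inr (Or.inr (Or.inl rfl))))
    (hne e (Or.inr (Or.inr (Or.inr rfl))))
    (hne2 _ _ hu hia) (hne2 _ _ hu hib) (hne2 _ _ hu hic) (hne2 _ _ hu hie) (hne2 _ _ hu ha'2)
    (hne2 _ _ hu' hia) (hne2 _ _ hu' hib) (hne2 _ _ hu' hic) (hne2 _ _ hu' hie) (hne2 _ _ hu' ha'2)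
  have hcP : swap x a' * swap u u' = cPair n (x.val / 2) i := by
    rw [cPair, sN_eq (a := 2 * (x.val / 2)) (by omega) (by omega), sN_eq (a := 2 * i) (by omega) (by omega)]
    refine congrArg₂ (· * ·) ?_ rfl
    have hv := flipP_val hk x
    rw [if_pos hx] at hv
    by_cases hp : x.val % 2 = 0
    · rw [if_pos hp] at hv
      exact congrArg₂ swap (Fin.ext (by show x.val = 2 * (x.val / 2); omega))
        (Fin.ext (by show a'.val = 2 * (x.val / 2) + 1; rw [ha', hv]; omega))
    · rw [if_neg hp] at hv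
      rw [swap_comm]
      exact congrArg₂ swap (Fin.ext (by show a'.val = 2 * (x.val / 2); rw [ha', hv]; omega))
        (Fin.ext (by show x.val = 2 * (x.val / 2) + 1; omega))
  have hcH : swap x a' * swap u u' ∈ H := hcP ▸ hC _ _ (by omega) hi (Ne.symm hia)
  have hxH := H.mul_mem (H.mul_mem hdH hcH) (H.mul_mem hdH hcH)
  rw [hdb]
  constructor <;> by_contra hlt
  · exact hmx (hG _ hxH h3c x (by omega))
  · exact hmb (hG _ hxH h3c b (by omega))

theorem four_inv : ∀ σ : Fin 4 → Fin 4, (∀ i, σ (σ i) = i) → (∀ i j, σ i = i → σ j = j → i = j) →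
    ∀ i, (swap (0 : Fin 4) 1 * swap 2 3 : Perm (Fin 4)) (σ i) = σ ((swap (0 : Fin 4) 1 * swap 2 3 : Perm (Fin 4)) i) := by
  decide +kernel

/-- If partners of moved points are moved, `d` commutes with the pairing. -/
theorem commute_of_untouched {d : Perm (Fin n)} (hd : IsD d) {k : ℕ} (hk : 2 * k ≤ n) (hk1 : n ≤ 2 * k + 1)
    (h : ∀ x : Fin n, x.val < 2 * k → d x ≠ x → d (flipP n k x) ≠ flipP n k x) :
    Commute d (flipP n k) := by
  obtain ⟨a, b, c, e, h1, h2, h3, h4, h5, h6, rfl⟩ := hd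
  set d := swap a b * swap c e with hdd
  set z := flipP n k
  let v : Fin 4 → Fin n := ![a, b, c, e]
  have hv : Function.Injective v := by
    intro i j hij
    fin_cases i <;> fin_cases j <;> simp [v] at hij <;>
      first | rfl | (simp_all)
  let δ : Perm (Fin 4) := swap 0 1 * swap 2 3
  have hdv : ∀ i, d (v i) = v (δ i) := by
    intro i
    fin_cases i <;> simp [v, δ, hdd, mul_apply, swap_apply_def] <;> simp_all [Ne.symm h2, Ne.symm h3, Ne.symm h4, Ne.symm h5, Ne.symm h1, Ne.symm h6]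
  have hout : ∀ y, (∀ i, y ≠ v i) → d y = y := fun y hy =>
    swap_swap_apply' (hy 0) (hy 1) (hy 2) (hy 3)
  have hmv : ∀ i, d (v i) ≠ v i := fun i hh => by
    rw [hdv] at hh
    revert i
    intro i hh
    have := hv hh
    fin_cases i <;> simp [δ, mul_apply, swap_apply_def] at this
  have hmov : ∀ y, d y ≠ y → ∃ i, y = v i := fun y hy => by
    by_contra hcon
    push Not at hcon
    exact hy (hout y hcon)
  have hσ : ∀ i, ∃ j, z (v i) = v j := by
    intro i
    by_cases hlt : (v i).val < 2 * k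
    · exact hmov _ (h _ hlt (hmv i))
    · refine ⟨i, Fin.ext ?_⟩
      rw [flipP_val hk, if_neg hlt]
  choose σ hσ using hσ
  have hinv : ∀ i, σ (σ i) = i := fun i => hv (by rw [← hσ, ← hσ, flipP_flipP])
  have hfix : ∀ i j, σ i = i → σ j = j → i = j := by
    intro i j hi hj
    have hval : ∀ i, σ i = i → (v i).val = 2 * k := by
      intro i hi
      have h7 : z (v i) = v i := by rw [hσ, hi]
      have hge : ¬ (v i).val < 2 * k := fun hlt => flipP_ne hk hlt h7
      have := (v i).isLt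
      omega
    exact hv (Fin.ext (by rw [hval i hi, hval j hj]))
  refine Equiv.ext fun y => ?_
  show d (z y) = z (d y)
  by_cases hy : ∃ i, y = v i
  · obtain ⟨i, rfl⟩ := hy
    rw [hσ, hdv, hdv, hσ]
    exact congrArg v (four_inv σ hinv hfix i)
  · push Not at hy
    rw [hout y hy, hout]
    intro i hi
    exact hy (σ i) (by rw [← hσ, ← hi, flipP_flipP])

/-- The shape of the exceptional double transpositions when `n % 4 = 3`. -/
def ExtraForm (d : Perm (Fin n)) : Prop :=
  n % 4 = 3 ∧ ∃ a b c : Fin n, 4 * (n / 4) ≤ a.val ∧ a.val < 2 * (n / 2) ∧ b.val = 2 * (n / 2) ∧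
    c.val < 4 * (n / 4) ∧ d = swap a b * swap c (flipP n (n / 2) c)

theorem ExtraForm.commute {d : Perm (Fin n)} (h : ExtraForm d) : Commute d (flipP n (2 * (n / 4))) := by
  obtain ⟨hn, a, b, c, ha, ha', hb, hc, rfl⟩ := h
  set z := flipP n (2 * (n / 4))
  have hk : 2 * (2 * (n / 4)) ≤ n := by omega
  have hzz : z⁻¹ = z := inv_eq_of_mul_eq_one_right (Equiv.ext fun y => flipP_flipP y)
  have hza : z a = a := Fin.ext (by rw [flipP_val hk, if_neg (by omega)])
  have hzb : z b = b := Fin.ext (by rw [flipP_val hk, if_neg (by omega)])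
  have hzc : z c = flipP n (n / 2) c :=
    Fin.ext (by rw [flipP_val hk, flipP_val (k := n / 2) (by omega), if_pos (show c.val < 2 * (2 * (n / 4)) by omega), if_pos (show c.val < 2 * (n / 2) by omega)])
  have hconj : z * (swap a b * swap c (flipP n (n / 2) c)) * z⁻¹ = swap a b * swap c (flipP n (n / 2) c) := by
    rw [← conj_mul, ← swap_apply_apply, ← swap_apply_apply, hza, hzb, hzc]
    congr 1
    rw [← hzc, flipP_flipP, hzc, swap_comm]
  rw [Commute, SemiconjBy]
  exact (mul_inv_eq_iff_eq_mul.1 hconj).symm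

theorem classify_large (hn : 10 ≤ n) (hC : ∀ i j, i < n / 2 → j < n / 2 → i ≠ j → cPair n i j ∈ H) (hG : Good H)
    {d : Perm (Fin n)} (hdH : d ∈ H) (hd : IsD d) : Commute d (flipP n (n / 2)) ∨ ExtraForm d := by
  classical
  set l := n / 2 with hl
  have hk : 2 * l ≤ n := by omega
  by_cases hall : ∀ x : Fin n, x.val < 2 * l → d x ≠ x → d (flipP n l x) ≠ flipP n l x
  · exact Or.inl (commute_of_untouched hd hk (by omega) hall)
  right
  push Not at hall
  obtain ⟨a, ha, hda, hfa⟩ := hall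
  obtain ⟨hqa, hqb⟩ := not_good_of_touched hC hG hdH hd ha hda hfa (by omega) (Or.inl (by omega))
  obtain ⟨b, c, e, h1, h2, h3, h4, h5, h6, hdeq⟩ := hd.form hda
  have hdab : d a = b := by rw [hdeq]; exact swap_swap_apply h2 h3
  rw [hdab] at hqb
  have hva := flipP_val hk a
  rw [if_pos ha] at hva
  have hba' : b ≠ flipP n l a := fun hb => h1 (d.injective (by rw [hdab, hb, hfa]))
  have hb1 : b.val ≠ (flipP n l a).val := fun hh => hba' (Fin.ext hh)
  have hb2 : a.val ≠ b.val := fun hh => h1 (Fin.ext hh)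
  have := b.isLt
  have hr : n % 4 = 3 := by split_ifs at hva <;> omega
  have hb : b.val = 2 * l := by split_ifs at hva <;> omega
  have hdc : d c ≠ c := by
    rw [hdeq, mul_apply, swap_apply_left, swap_apply_of_ne_of_ne h3.symm h5.symm]; exact h6.symm
  have hde : d e ≠ e := by
    rw [hdeq, mul_apply, swap_apply_right, swap_apply_of_ne_of_ne h2.symm h4.symm]; exact h6
  have hquad : ∀ y : Fin n, y ≠ a → y ≠ b → d y ≠ y → y.val < 4 * (n / 4) := by
    intro y hya hyb hy
    have h7 : y.val ≠ (flipP n l a).val := fun hh => hy (by rw [Fin.ext hh, hfa])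
    have h8 : y.val ≠ a.val := fun hh => hya (Fin.ext hh)
    have h9 : y.val ≠ b.val := fun hh => hyb (Fin.ext hh)
    have := y.isLt
    split_ifs at hva <;> omega
  have hc := hquad c h2.symm h4.symm hdc
  have hzc : d (flipP n l c) ≠ flipP n l c := by
    intro hh
    have := (not_good_of_touched hC hG hdH hd (by omega) hdc hh (by omega) (Or.inl (by omega))).1
    omega
  refine ⟨hr, a, b, c, hqa, ha, hb, hc, ?_⟩
  have hve : flipP n l c = e := by
    by_contra hne
    apply hzc
    have hvc := flipP_val hk c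
    rw [if_pos (by omega)] at hvc
    rw [hdeq]
    refine swap_swap_apply' ?_ ?_ (flipP_ne hk (by omega)) hne <;> intro hh <;>
      · have := congrArg Fin.val hh
        split_ifs at hvc <;> omega
  rw [hve]; exact hdeq

theorem large_common (hn : 10 ≤ n) (hC : ∀ i j, i < n / 2 → j < n / 2 → i ≠ j → cPair n i j ∈ H) (hG : Good H) :
    ∃ k, 4 ≤ k ∧ 2 * k ≤ n ∧ n ≤ 2 * k + 3 ∧ k ≤ n / 2 ∧ ∀ d ∈ H, IsD d → Commute d (flipP n k) := by
  classical
  set l := n / 2 with hl
  have hk : 2 * l ≤ n := by omega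
  by_cases hall : ∀ d ∈ H, IsD d → Commute d (flipP n l)
  · exact ⟨l, by omega, hk, by omega, le_rfl, hall⟩
  push Not at hall
  obtain ⟨d2, hd2H, hd2, hnc⟩ := hall
  have hE : ExtraForm d2 := (classify_large hn hC hG hd2H hd2).resolve_left hnc
  have hr : n % 4 = 3 := hE.1
  refine ⟨2 * (n / 4), by omega, by omega, by omega, by omega, fun d1 hd1H hd1 => ?_⟩
  rcases classify_large hn hC hG hd1H hd1 with hc1 | hc1
  swap
  · exact hc1.commute
  have hcom : ∀ y, d1 (flipP n l y) = flipP n l (d1 y) := fun y =>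
    congrArg (fun g : Perm (Fin n) => g y) hc1.eq
  by_cases hpres : ∀ x : Fin n, x.val < 4 * (n / 4) → (d1 x).val < 4 * (n / 4)
  · have hdd : ∀ y, d1 (d1 y) = y := fun y => congrArg (fun g : Perm (Fin n) => g y) hd1.mul_self
    refine Equiv.ext fun y => ?_
    show d1 (flipP n (2 * (n / 4)) y) = flipP n (2 * (n / 4)) (d1 y)
    have heq : ∀ w : Fin n, w.val < 4 * (n / 4) → flipP n (2 * (n / 4)) w = flipP n l w := fun w hw =>
      Fin.ext (by rw [flipP_val (k := 2 * (n / 4)) (by omega), flipP_val hk, if_pos (show w.val < 2 * (2 * (n / 4)) by omega), if_pos (show w.val < 2 * l by omega)])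
    have hne : ∀ w : Fin n, ¬ w.val < 4 * (n / 4) → flipP n (2 * (n / 4)) w = w := fun w hw =>
      Fin.ext (by rw [flipP_val (k := 2 * (n / 4)) (by omega), if_neg (by omega)])
    by_cases hy : y.val < 4 * (n / 4)
    · rw [heq y hy, heq _ (hpres y hy), hcom]
    · rw [hne y hy, hne _ fun h => hy (by have := hpres _ h; rwa [hdd] at this)]
  exfalso
  push Not at hpres
  obtain ⟨x, hx, hx'⟩ := hpres
  obtain ⟨-, a, b, c, ha, ha', hb, hc, hd2eq⟩ := hE
  rw [← hl] at hd2eq
  have hdd : ∀ y, d1 (d1 y) = y := fun y => congrArg (fun g : Perm (Fin n) => g y) hd1.mul_self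
  have hb1 : d1 b = b := by
    have hzb : flipP n l b = b := Fin.ext (by rw [flipP_val hk, if_neg (by omega)])
    have h7 : flipP n l (d1 b) = d1 b := by rw [← hcom, hzb]
    have h8 : ¬ (d1 b).val < 2 * l := fun hlt => flipP_ne hk hlt h7
    exact Fin.ext (by omega)
  have hq0 : (d1 a).val < 4 * (n / 4) := by
    have hxl : (d1 x).val < 2 * l := by
      by_contra hge
      have hxb : d1 x = b := Fin.ext (by omega)
      rw [← hb1] at hxb
      have := congrArg Fin.val (d1.injective hxb)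
      omega
    rcases eq_or_eq_flipP hk hxl (show a.val / 2 = (d1 x).val / 2 by omega) with h | h
    · rw [h, hdd]; exact hx
    · rw [h, hcom, hdd, flipP_val hk, if_pos (by omega)]
      split_ifs <;> omega
  have hdinv : d1⁻¹ = d1 := inv_eq_of_mul_eq_one_right hd1.mul_self
  set d' := d1 * d2 * d1⁻¹ with hd'
  have hd'H : d' ∈ H := H.mul_mem (H.mul_mem hd1H hd2H) (H.inv_mem hd1H)
  have hac : a ≠ c := fun h => by have := congrArg Fin.val h; omega
  have hae : a ≠ flipP n l c := fun h => by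
    have := congrArg Fin.val h
    rw [flipP_val hk, if_pos (by omega)] at this
    split_ifs at this <;> omega
  have h1 : d' (d1 a) = b := by
    rw [hd', hdinv, mul_apply, mul_apply, hdd, hd2eq, swap_swap_apply hac hae, hb1]
  have h2 : d' (flipP n l (d1 a)) = flipP n l (d1 a) := by
    rw [← hcom, hd', hdinv, mul_apply, mul_apply, hdd]
    congr 1
    rw [hd2eq]
    have hva := flipP_val hk a
    rw [if_pos (show a.val < 2 * l by omega)] at hva
    have hvc := flipP_val hk c
    rw [if_pos (show c.val < 2 * l by omega)] at hvc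
    refine swap_swap_apply' (flipP_ne hk (by omega)) ?_ ?_ ?_ <;> intro hh <;>
      · have := congrArg Fin.val hh
        split_ifs at hva hvc <;> omega
  have := (not_good_of_touched hC hG hd'H (hd2.conj d1) (x := d1 a) (by omega)
    (by rw [h1]; intro h; have := congrArg Fin.val h; omega) h2 (by omega) (Or.inl (by omega))).1
  omega

/-- The embedding of the symmetric group on the first eight points. -/
noncomputable def emb8 (h : 8 ≤ n) : Perm (Fin 8) →* Perm (Fin n) := viaEmbeddingHom (Fin.castLEEmb h)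

theorem emb8_apply (h : 8 ≤ n) (g : Perm (Fin 8)) (x : Fin 8) : emb8 h g (Fin.castLE h x) = Fin.castLE h (g x) :=
  viaEmbedding_apply g (Fin.castLEEmb h) x

theorem emb8_apply_ge (h : 8 ≤ n) (g : Perm (Fin 8)) {x : Fin n} (hx : ¬ x.val < 8) : emb8 h g x = x :=
  viaEmbedding_apply_of_notMem g (Fin.castLEEmb h) x (by
    rintro ⟨y, rfl⟩
    exact hx (by simp))

theorem emb8_swap (h : 8 ≤ n) (a b : Fin 8) : emb8 h (swap a b) = swap (Fin.castLE h a) (Fin.castLE h b) := by
  refine Equiv.ext fun x => ?_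
  by_cases hx : x.val < 8
  · obtain ⟨y, rfl⟩ : ∃ y : Fin 8, Fin.castLE h y = x := ⟨⟨x.val, hx⟩, rfl⟩
    rw [emb8_apply, (Fin.castLE_injective h).map_swap]
  · rw [emb8_apply_ge h _ hx, swap_apply_of_ne_of_ne] <;> intro hh <;> exact hx (by rw [hh]; simp)

theorem emb8_cPair (h : 8 ≤ n) {i j : ℕ} (hi : i < 4) (hj : j < 4) : emb8 h (cPair 8 i j) = cPair n i j := by
  rw [cPair, cPair, map_mul]
  refine congrArg₂ (· * ·) ?_ ?_ <;> rw [sN_eq (by omega) (by omega), sN_eq (by omega) (by omega), emb8_swap] <;> rfl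

theorem emb8_qQuad (h : 8 ≤ n) {i : ℕ} (hi : i < 2) : emb8 h (qQuad 8 i) = qQuad n i := by
  rw [qQuad, qQuad, map_mul]
  refine congrArg₂ (· * ·) ?_ ?_ <;> rw [sN_eq (by omega) (by omega), sN_eq (by omega) (by omega), emb8_swap] <;> rfl

theorem emb8_cList (h : 8 ≤ n) (hC : ∀ i j, i < n / 2 → j < n / 2 → i ≠ j → cPair n i j ∈ H) :
    ∀ c ∈ cList, emb8 h c ∈ H := by
  intro c hc
  simp only [cList, List.mem_cons, List.not_mem_nil, or_false] at hc
  rcases hc with rfl | rfl | rfl | rfl | rfl | rfl <;>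
    (rw [emb8_cPair h (by omega) (by omega)]; exact hC _ _ (by omega) (by omega) (by omega))

theorem not_three_of_good (h : 8 ≤ n) (hG : Good H) {g : Perm (Fin 8)} (hg : g.support.card = 3)
    (hgH : emb8 h g ∈ H) : False := by
  have h3 := card_support_eq_three_iff.1 hg
  obtain ⟨x, hx⟩ := Finset.card_pos.1 (by rw [hg]; norm_num : 0 < g.support.card)
  have h3' : (emb8 h g).IsThreeCycle := by
    show cycleType _ = {3}
    rw [emb8, viaEmbeddingHom_apply]
    rw [show viaEmbedding g (Fin.castLEEmb h) = g.extendDomain (Equiv.ofInjective _ (Fin.castLEEmb h).injective) from ?_]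
    · rw [cycleType_extendDomain]; exact h3
    · refine Equiv.ext fun y => ?_
      by_cases hy : y ∈ Set.range (Fin.castLEEmb h)
      · obtain ⟨z, rfl⟩ := hy
        rw [viaEmbedding_apply]
        exact (extendDomain_apply_image g (Equiv.ofInjective _ (Fin.castLEEmb h).injective) z).symm
      · rw [viaEmbedding_apply_of_notMem _ _ _ hy, extendDomain_apply_not_subtype]
        exact hy
  have := hG _ hgH h3' (Fin.castLE h x) (by simp; omega)
  rw [emb8_apply] at this
  exact mem_support.1 hx (Fin.castLE_injective h this)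

theorem small_common (h : 8 ≤ n) (hn : n ≤ 9) (hC : ∀ i j, i < n / 2 → j < n / 2 → i ≠ j → cPair n i j ∈ H)
    (hG : Good H) :
    ∃ s, ∀ d ∈ H, IsD d → ∃ d0 : Perm (Fin 8), emb8 h d0 = d ∧ NormT s d0 := by
  classical
  have hk : 2 * (n / 2) ≤ n := by omega
  have hlow : ∀ d ∈ H, IsD d → ∀ y : Fin n, ¬ y.val < 8 → d y = y := by
    intro d hdH hd y hy
    by_contra hdy
    by_cases hall : ∀ x : Fin n, x.val < 2 * (n / 2) → d x ≠ x → d (flipP n (n / 2) x) ≠ flipP n (n / 2) x
    · have hcm := commute_of_untouched hd hk (by omega) hall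
      have hzy : flipP n (n / 2) y = y := Fin.ext (by rw [flipP_val hk, if_neg (by omega)])
      have h7 : flipP n (n / 2) (d y) = d y := by
        rw [← mul_apply, ← hcm.eq, mul_apply, hzy]
      have h8 : ¬ (d y).val < 2 * (n / 2) := fun hlt => flipP_ne hk hlt h7
      exact hdy (Fin.ext (by omega))
    · push Not at hall
      obtain ⟨x, hx, hdx, hfx⟩ := hall
      have := (not_good_of_touched hC hG hdH hd hx hdx hfx (by omega) (Or.inr ⟨y, hdy, by omega⟩)).1
      omega
  have hrep : ∀ d ∈ H, IsD d → ∃ a b c e : Fin 8, a < b ∧ a < c ∧ c < e ∧ b ≠ c ∧ b ≠ e ∧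
      emb8 h (swap a b * swap c e) = d := by
    intro d hdH hd
    obtain ⟨a, b, c, e, h1, h2, h3, h4, h5, rfl⟩ := hd.sorted
    have hm : ∀ y : Fin n, (swap a b * swap c e : Perm (Fin n)) y ≠ y → y.val < 8 := fun y hy => by
      by_contra hy'; exact hy (hlow _ hdH hd y hy')
    have hae : a ≠ e := ne_of_lt (h2.trans h3)
    have ha := hm a (by rw [swap_swap_apply (ne_of_lt h2) hae]; exact ne_of_gt h1)
    have hb := hm b (by rw [mul_apply, swap_apply_of_ne_of_ne h4 h5, swap_apply_right]; exact ne_of_lt h1)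
    have hc := hm c (by rw [mul_apply, swap_apply_left, swap_apply_of_ne_of_ne hae.symm h5.symm]; exact ne_of_gt h3)
    have he := hm e (by rw [mul_apply, swap_apply_right, swap_apply_of_ne_of_ne (ne_of_gt h2) h4.symm]; exact ne_of_lt h3)
    refine ⟨⟨a, ha⟩, ⟨b, hb⟩, ⟨c, hc⟩, ⟨e, he⟩, h1, h2, h3, ?_, ?_, ?_⟩
    · exact fun hh => h4 (Fin.ext (congrArg Fin.val hh : _))
    · exact fun hh => h5 (Fin.ext (congrArg Fin.val hh : _))
    · rw [map_mul, emb8_swap, emb8_swap]; rfl
  have hnb : ∀ d0 : Perm (Fin 8), emb8 h d0 ∈ H → ¬ Bad d0 := by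
    rintro d0 hd0 ⟨c, hc, hcard⟩
    refine not_three_of_good h hG hcard ?_
    have := H.mul_mem hd0 (emb8_cList h hC c hc)
    rw [map_mul, map_mul]
    exact H.mul_mem this this
  by_cases htrue : ∀ d ∈ H, IsD d → ∃ d0 : Perm (Fin 8), emb8 h d0 = d ∧ NormT true d0
  · exact ⟨true, htrue⟩
  refine ⟨false, fun e' he'H he' => ?_⟩
  push Not at htrue
  obtain ⟨d, hdH, hd, hdn⟩ := htrue
  obtain ⟨a, b, c, e, q1, q2, q3, q4, q5, hde⟩ := hrep d hdH hd
  obtain ⟨a', b', c', f', r1, r2, r3, r4, r5, hee⟩ := hrep e' he'H he'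
  refine ⟨_, hee, ?_⟩
  by_contra hen
  obtain ⟨f, hf, hcard⟩ := eight_mixed a b c e q1 q2 q3 q4 q5 (hnb _ (hde.symm ▸ hdH)) (hdn _ hde)
    a' b' c' f' r1 r2 r3 r4 r5 (hnb _ (hee.symm ▸ he'H)) hen
  refine not_three_of_good h hG hcard ?_
  have hfH : emb8 h f ∈ H := by
    rcases List.mem_cons.1 hf with rfl | hf
    · rw [map_one]; exact H.one_mem
    · exact emb8_cList h hC f (List.mem_of_mem_take hf)
  have := H.mul_mem (H.mul_mem (H.mul_mem hfH (hde.symm ▸ hdH : emb8 h (swap a b * swap c e) ∈ H)) hfH)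
    (hee.symm ▸ he'H : emb8 h (swap a' b' * swap c' f') ∈ H)
  rw [map_mul, map_mul, map_mul, map_mul]
  exact H.mul_mem this this

end Cfsg.Agent.AltOvergroupTwo
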