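import Cfsg.Agent.AltOvergroupTwo.Basic

/-!
Finite facts on double transpositions of eight points: two of them without three-cycles in the products
with pair products, and normalizing different translation groups, produce a three-cycle. The finite searches are run on maps of natural
numbers and transported to permutations.
-/

set_option autoImplicit false

namespace Cfsg.Agent.AltOvergroupTwo

open Equiv Equiv.Perm

/-! ### Searches on natural numbers -/

/-- Transposition on naturals. -/
def nsw (a b x : ℕ) : ℕ := bif x == a then b else bif x == b then a else x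

/-- Double transposition on naturals. -/
def nd (a b c e x : ℕ) : ℕ := nsw a b (nsw c e x)

/-- Relabelling distinguishing the two translation groups. -/
def nsig (s : Bool) (x : ℕ) : ℕ := bif s then nsw 6 7 x else x

/-- Translation by `v`. -/
def ntr (s : Bool) (v x : ℕ) : ℕ := nsig s (nsig s x ^^^ v)

/-- Normalizing the translations. -/
def nnorm (s : Bool) (d : ℕ → ℕ) : Bool :=
  (List.range 8).all fun v => (List.range 8).all fun x =>
    d (ntr s v (d x)) == ntr s (nsig s (d (ntr s v (d (nsig s 0))))) x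

/-- Three moved points among eight. -/
def nthree (f : ℕ → ℕ) : Bool := (List.range 8).countP (fun x => !(f x == x)) == 3

/-- Index pairs of the six pair products. -/
def nCList : List (ℕ × ℕ) := [(0, 1), (0, 2), (0, 3), (1, 2), (1, 3), (2, 3)]

/-- Pair product. -/
def nc (i j x : ℕ) : ℕ := nd (2 * i) (2 * i + 1) (2 * j) (2 * j + 1) x

/-- Some pair product gives a three-cycle. -/
def nbad (d : ℕ → ℕ) : Bool :=
  nCList.any fun p => nthree fun x => d (nc p.1 p.2 (d (nc p.1 p.2 x)))

/-- Some conjugate product gives a three-cycle. -/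
def nmix (d d' : ℕ → ℕ) : Bool :=
  (nthree fun x => d (d' (d (d' x)))) ||
    (nCList.take 4).any fun p =>
      nthree fun x => nc p.1 p.2 (d (nc p.1 p.2 (d' (nc p.1 p.2 (d (nc p.1 p.2 (d' x)))))))

/-- Sorted quadruples. -/
def nQuads : List (ℕ × ℕ × ℕ × ℕ) :=
  (List.range 8).flatMap fun a => (List.range 8).flatMap fun b => (List.range 8).flatMap fun c =>
    (List.range 8).filterMap fun e =>
      bif (Nat.blt a b && Nat.blt a c && Nat.blt c e && !(b == c) && !(b == e)) then some (a, b, c, e) else none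

/-- The function of a quadruple. -/
def qfun (q : ℕ × ℕ × ℕ × ℕ) : ℕ → ℕ := nd q.1 q.2.1 q.2.2.1 q.2.2.2

set_option maxRecDepth 20000 in
theorem nmixed :
    ((nQuads.filter fun q => !nbad (qfun q) && !nnorm true (qfun q)).all fun p =>
      (nQuads.filter fun q => !nbad (qfun q) && !nnorm false (qfun q)).all fun q =>
        nmix (qfun p) (qfun q)) = true := by
  decide +kernel

/-! ### Transport to permutations -/

/-- `f` computes `g`. -/
def Rep (g : Perm (Fin 8)) (f : ℕ → ℕ) : Prop := ∀ x : Fin 8, (g x).val = f x.val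

theorem Rep.mul {g h : Perm (Fin 8)} {f k : ℕ → ℕ} (hg : Rep g f) (hh : Rep h k) : Rep (g * h) fun x => f (k x) :=
  fun x => by rw [mul_apply, hg, hh]

theorem rep_swap (a b : Fin 8) : Rep (swap a b) (nsw a.val b.val) := fun x => by
  rw [swap_apply_def]
  simp only [nsw, Bool.cond_eq_ite, beq_iff_eq, Fin.val_inj]
  split_ifs <;> rfl

theorem rep_cPair {i j : ℕ} (hi : i < 4) (hj : j < 4) : Rep (cPair 8 i j) (nc i j) := by
  rw [cPair, sN_eq (by omega) (by omega), sN_eq (by omega) (by omega)]
  exact (rep_swap _ _).mul (rep_swap _ _)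

theorem card_support_of_nthree {g : Perm (Fin 8)} {f : ℕ → ℕ} (hg : Rep g f) (h : nthree f = true) :
    g.support.card = 3 := by
  have h1 : g.support = Finset.univ.filter fun x : Fin 8 => ¬ f x.val = x.val := by
    ext x
    simp only [mem_support, Finset.mem_filter, Finset.mem_univ, true_and, ← hg x, ne_eq, Fin.val_inj]
  have h2 : (Finset.univ.filter fun x : Fin 8 => ¬ f x.val = x.val).card =
      (List.range 8).countP (fun x => !(f x == x)) := by
    simp only [Fin.univ_def, Finset.card_def, Finset.filter, Multiset.filter_coe, Multiset.coe_card]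
    rw [← List.countP_eq_length_filter, ← List.map_coe_finRange_eq_range, List.countP_map]
    congr 1
    funext x
    simp [beq_eq_decide]
  rw [h1, h2]
  simpa [nthree] using h

/-- The six pair products on eight points. -/
def cList : List (Perm (Fin 8)) :=
  [cPair 8 0 1, cPair 8 0 2, cPair 8 0 3, cPair 8 1 2, cPair 8 1 3, cPair 8 2 3]

/-- Some pair product gives a three-cycle with `d`. -/
def Bad (d : Perm (Fin 8)) : Prop := ∃ c ∈ cList, ((d * c) * (d * c)).support.card = 3

theorem trans_invol : ∀ (s : Bool) (v x : Fin 8), ntr s v.val (ntr s v.val x.val) = x.val ∧ ntr s v.val x.val < 8 := by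
  decide +kernel

/-- Translation of eight points. -/
def tr (s : Bool) (v : Fin 8) : Perm (Fin 8) where
  toFun x := ⟨ntr s v.val x.val, (trans_invol s v x).2⟩
  invFun x := ⟨ntr s v.val x.val, (trans_invol s v x).2⟩
  left_inv x := Fin.ext (trans_invol s v x).1
  right_inv x := Fin.ext (trans_invol s v x).1

theorem rep_tr (s : Bool) (v : Fin 8) : Rep (tr s v) (ntr s v.val) := fun _ => rfl

/-- `d` normalizes the translation group. -/
def NormT (s : Bool) (d : Perm (Fin 8)) : Prop := ∀ v, ∃ w, d * tr s v * d = tr s w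

theorem normT_of_nnorm {s : Bool} {d : Perm (Fin 8)} {f : ℕ → ℕ} (hd : Rep d f) (h : nnorm s f = true) :
    NormT s d := by
  intro v
  have h0 : nsig s 0 = ((0 : Fin 8) : ℕ) := by cases s <;> rfl
  have hw : nsig s (f (ntr s v.val (f (nsig s 0)))) < 8 := by
    rw [h0, ← hd, ← rep_tr, ← hd]
    have hlt : ∀ y : Fin 8, nsig s y.val < 8 := by cases s <;> decide
    exact hlt _
  refine ⟨⟨_, hw⟩, Equiv.ext fun x => Fin.ext ?_⟩
  rw [((hd.mul (rep_tr s v)).mul hd) x, rep_tr]
  simp only [nnorm, List.all_eq_true, List.mem_range, beq_iff_eq] at h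
  exact h v.val v.isLt x.val x.isLt

theorem mem_nQuads {a b c e : Fin 8} (h1 : a < b) (h2 : a < c) (h3 : c < e) (h4 : b ≠ c) (h5 : b ≠ e) :
    (a.val, b.val, c.val, e.val) ∈ nQuads := by
  simp only [nQuads, List.mem_flatMap, List.mem_range, List.mem_filterMap]
  refine ⟨a.val, a.isLt, b.val, b.isLt, c.val, c.isLt, e.val, e.isLt, ?_⟩
  have h4' : b.val ≠ c.val := fun h => h4 (Fin.ext h)
  have h5' : b.val ≠ e.val := fun h => h5 (Fin.ext h)
  rw [Fin.lt_def] at h1 h2 h3
  have e1 : Nat.blt a.val b.val = true := by rw [Nat.blt_eq]; exact h1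
  have e2 : Nat.blt a.val c.val = true := by rw [Nat.blt_eq]; exact h2
  have e3 : Nat.blt c.val e.val = true := by rw [Nat.blt_eq]; exact h3
  simp [e1, e2, e3, beq_eq_false_iff_ne.2 h4', beq_eq_false_iff_ne.2 h5']

theorem rep_quad (a b c e : Fin 8) : Rep (swap a b * swap c e) (qfun (a.val, b.val, c.val, e.val)) :=
  (rep_swap a b).mul (rep_swap c e)

theorem mem_cList {p : ℕ × ℕ} (hp : p ∈ nCList) : cPair 8 p.1 p.2 ∈ cList ∧ p.1 < 4 ∧ p.2 < 4 := by
  simp only [nCList, List.mem_cons, List.not_mem_nil, or_false] at hp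
  rcases hp with rfl | rfl | rfl | rfl | rfl | rfl <;> simp [cList]

theorem bad_of_nbad {d : Perm (Fin 8)} {f : ℕ → ℕ} (hd : Rep d f) (h : nbad f = true) : Bad d := by
  simp only [nbad, List.any_eq_true] at h
  obtain ⟨p, hp, h⟩ := h
  obtain ⟨hm, hi, hj⟩ := mem_cList hp
  exact ⟨_, hm, card_support_of_nthree ((hd.mul (rep_cPair hi hj)).mul (hd.mul (rep_cPair hi hj))) h⟩

theorem eight_mixed (a b c e : Fin 8) (h1 : a < b) (h2 : a < c) (h3 : c < e) (h4 : b ≠ c) (h5 : b ≠ e)
    (hb : ¬ Bad (swap a b * swap c e)) (hn : ¬ NormT true (swap a b * swap c e))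
    (a' b' c' e' : Fin 8) (g1 : a' < b') (g2 : a' < c') (g3 : c' < e') (g4 : b' ≠ c') (g5 : b' ≠ e')
    (hb' : ¬ Bad (swap a' b' * swap c' e')) (hn' : ¬ NormT false (swap a' b' * swap c' e')) :
    ∃ f ∈ (1 : Perm (Fin 8)) :: cList.take 4,
      ((f * (swap a b * swap c e) * f * (swap a' b' * swap c' e')) *
        (f * (swap a b * swap c e) * f * (swap a' b' * swap c' e'))).support.card = 3 := by
  have hd := rep_quad a b c e
  have hd' := rep_quad a' b' c' e'
  have hm1 : (a.val, b.val, c.val, e.val) ∈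
      nQuads.filter fun q => !nbad (qfun q) && !nnorm true (qfun q) := by
    rw [List.mem_filter]
    refine ⟨mem_nQuads h1 h2 h3 h4 h5, ?_⟩
    simp only [Bool.and_eq_true, Bool.not_eq_true']
    exact ⟨Bool.eq_false_iff.2 fun h => hb (bad_of_nbad hd h), Bool.eq_false_iff.2 fun h => hn (normT_of_nnorm hd h)⟩
  have hm2 : (a'.val, b'.val, c'.val, e'.val) ∈
      nQuads.filter fun q => !nbad (qfun q) && !nnorm false (qfun q) := by
    rw [List.mem_filter]
    refine ⟨mem_nQuads g1 g2 g3 g4 g5, ?_⟩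
    simp only [Bool.and_eq_true, Bool.not_eq_true']
    exact ⟨Bool.eq_false_iff.2 fun h => hb' (bad_of_nbad hd' h), Bool.eq_false_iff.2 fun h => hn' (normT_of_nnorm hd' h)⟩
  have h := List.all_eq_true.1 (List.all_eq_true.1 nmixed _ hm1) _ hm2
  simp only [nmix, Bool.or_eq_true, List.any_eq_true] at h
  rcases h with h | ⟨p, hp, h⟩
  · refine ⟨1, List.mem_cons_self, ?_⟩
    simp only [one_mul, mul_one]
    exact card_support_of_nthree ((hd.mul hd').mul (hd.mul hd')) h
  · obtain ⟨-, hi, hj⟩ := mem_cList (List.mem_of_mem_take hp)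
    refine ⟨cPair 8 p.1 p.2, ?_, ?_⟩
    · simp only [nCList, List.take, List.mem_cons, List.not_mem_nil, or_false] at hp
      rcases hp with rfl | rfl | rfl | rfl <;> simp [cList]
    · have hc := rep_cPair hi hj
      exact card_support_of_nthree ((((hc.mul hd).mul hc).mul hd').mul (((hc.mul hd).mul hc).mul hd')) h

theorem trans_facts : ∀ (s : Bool) (v w : Fin 8), (∃ u : Fin 8, ∀ x : Fin 8,
    tr s v (tr s w x) = tr s u x) ∧ (∀ x : Fin 8, tr s v (tr s w x) = tr s w (tr s v x)) := by
  decide +kernel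

/-- Sorted normal form. -/
theorem IsD.sorted {n : ℕ} {d : Perm (Fin n)} (h : IsD d) :
    ∃ a b c e : Fin n, a < b ∧ a < c ∧ c < e ∧ b ≠ c ∧ b ≠ e ∧ d = swap a b * swap c e := by
  obtain ⟨a, b, c, e, h1, h2, h3, h4, h5, h6, hd⟩ := h
  have key : ∀ a b c e : Fin n, a ≠ c → a ≠ e → b ≠ c → b ≠ e → a < b → c < e →
      d = swap a b * swap c e →
      ∃ a b c e : Fin n, a < b ∧ a < c ∧ c < e ∧ b ≠ c ∧ b ≠ e ∧ d = swap a b * swap c e := by
    intro a b c e h2 h3 h4 h5 hab hce hd
    rcases lt_or_gt_of_ne h2 with h | h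
    · exact ⟨a, b, c, e, hab, h, hce, h4, h5, hd⟩
    · exact ⟨c, e, a, b, hce, h, hab, h3.symm, h5.symm, by rw [hd]; exact (commute_swap_swap h2 h3 h4 h5).eq⟩
  rcases lt_or_gt_of_ne h1 with h | h <;> rcases lt_or_gt_of_ne h6 with h' | h'
  · exact key a b c e h2 h3 h4 h5 h h' hd
  · exact key a b e c h3 h2 h5 h4 h h' (by rw [hd, swap_comm c e])
  · exact key b a c e h4 h5 h2 h3 h h' (by rw [hd, swap_comm a b])
  · exact key b a e c h5 h4 h3 h2 h h' (by rw [hd, swap_comm c e, swap_comm a b])

end Cfsg.Agent.AltOvergroupTwo
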