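import Cfsg.Agent.AltOvergroupTwo.Classify
import Cfsg.Agent.Comp.Layer

/-!
A quasisimple self-centralizing normal subgroup is incompatible with the absence of three-cycles.
-/

set_option autoImplicit false

namespace Cfsg.Agent.AltOvergroupTwo

open Equiv Equiv.Perm

variable {n : ℕ}

theorem isSolvable_perm_small {β : Type*} [Fintype β] [DecidableEq β] (h : Fintype.card β ≤ 4) :
    Group.IsSolvable (Perm β) := by
  haveI : Group.IsSolvable (alternatingGroup β) := S2929.isSolvable_alt_of_le_four h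
  refine Group.isSolvable_of_ker_le_range (alternatingGroup β).subtype (sign : Perm β →* ℤˣ) ?_
  rw [Subgroup.range_subtype]
  rfl

/-- A group acting commutatively on a set with small complement is solvable. -/
theorem solvable_of_commute_on (G : Subgroup (Perm (Fin n))) (p : Fin n → Prop) [DecidablePred p]
    (hinv : ∀ g ∈ G, ∀ x, p (g x) ↔ p x) (hcomm : ∀ g ∈ G, ∀ h ∈ G, ∀ x, p x → g (h x) = h (g x))
    (hsmall : Fintype.card {x // ¬ p x} ≤ 4) : Group.IsSolvable G := by
  haveI := isSolvable_perm_small hsmall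
  let ψ : G →* Perm {x // ¬ p x} :=
    { toFun := fun g => (g : Perm (Fin n)).subtypePerm fun x => not_congr (hinv g g.2 x)
      map_one' := Equiv.ext fun x => rfl
      map_mul' := fun g h => Equiv.ext fun x => rfl }
  haveI : Group.IsSolvable ψ.ker := by
    refine Group.isSolvable_of_comm fun g h => ?_
    apply Subtype.ext; apply Subtype.ext
    refine Equiv.ext fun x => ?_
    show ((g : G) : Perm (Fin n)) (((h : G) : Perm (Fin n)) x) = ((h : G) : Perm (Fin n)) (((g : G) : Perm (Fin n)) x)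
    by_cases hx : p x
    · exact hcomm _ (g : G).2 _ (h : G).2 x hx
    · have hk : ∀ k : ψ.ker, ((k : G) : Perm (Fin n)) x = x := fun k =>
        congrArg Subtype.val (congrArg (fun e : Perm {x // ¬ p x} => e ⟨x, hx⟩) (MonoidHom.mem_ker.1 k.2))
      rw [hk g, hk h, hk g]
  exact Group.isSolvable_of_ker_le_range ψ.ker.subtype ψ (by rw [Subgroup.range_subtype])

theorem card_compl_le {m : ℕ} (hm : n ≤ m + 4) : Fintype.card {x : Fin n // ¬ x.val < m} ≤ 4 := by
  have := Fintype.card_le_of_injective (β := Fin 4) (fun x : {x : Fin n // ¬ x.val < m} => ⟨x.1.val - m, by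
    have := x.1.isLt; omega⟩) fun x y h => Subtype.ext (Fin.ext (by
    have := x.2; have := y.2; have := congrArg Fin.val h
    simp only at this
    omega))
  simpa using this

/-- The subgroup generated by the double transpositions of `H`. -/
def dgen (H : Subgroup (Perm (Fin n))) : Subgroup (Perm (Fin n)) :=
  Subgroup.closure {d | d ∈ H ∧ IsD d}

theorem dgen_le (H : Subgroup (Perm (Fin n))) : dgen H ≤ H := (Subgroup.closure_le _).2 fun _ h => h.1

theorem dgen_normal (H : Subgroup (Perm (Fin n))) : ((dgen H).subgroupOf H).Normal := by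
  refine ⟨fun x hx g => ?_⟩
  rw [Subgroup.mem_subgroupOf] at hx ⊢
  have h1 : dgen H ≤ (dgen H).comap (MulAut.conj (g : Perm (Fin n))).toMonoidHom :=
    (Subgroup.closure_le _).2 fun d hd =>
      Subgroup.subset_closure ⟨H.mul_mem (H.mul_mem g.2 hd.1) (H.inv_mem g.2), hd.2.conj _⟩
  exact h1 hx

variable {H : Subgroup (Perm (Fin n))} {E : Subgroup ↥H}

theorem le_E_of_solvable [hEn : E.Normal] (hF : Cfsg.IsQuasisimple ↥E)
    (hcent : Subgroup.centralizer (E : Set ↥H) ≤ E) {K : Subgroup ↥H} (hK : K.IsSubnormal)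
    (hs : Group.IsSolvable K) : K ≤ E ∧ K ≤ Subgroup.centralizer (E : Set ↥H) := by
  have hle := CfsgLib.Comp.subnormal_solvable_le_solvRad hK hs
  have h2 := CfsgLib.Comp.component_commutator_normal_solvable (H := CfsgLib.Comp.solvRad ↥H)
    (⟨hEn.isSubnormal, hF⟩ : Cfsg.IsComponent E) CfsgLib.Comp.solvRad_isSolvable
  rw [Subgroup.commutator_comm, Subgroup.commutator_eq_bot_iff_le_centralizer] at h2
  exact ⟨(hle.trans h2).trans hcent, hle.trans h2⟩

/-- Elements of a solvable group normalized by the double transpositions commute with `E`. -/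
theorem commute_E_of_normalized [hEn : E.Normal] (hF : Cfsg.IsQuasisimple ↥E)
    (hcent : Subgroup.centralizer (E : Set ↥H) ≤ E) (M : Subgroup (Perm (Fin n))) (hM : Group.IsSolvable M)
    (hnorm : ∀ d ∈ H, IsD d → ∀ g ∈ M, d * g * d ∈ M) {g : Perm (Fin n)} (hg : g ∈ dgen H) (hgM : g ∈ M)
    {u : ↥H} (hu : u ∈ E) : (u : Perm (Fin n)) * g = g * u := by
  let N := (dgen H ⊓ M).subgroupOf H
  have hW : dgen H ≤ Subgroup.normalizer (M : Set (Perm (Fin n))) := by
    refine (Subgroup.closure_le _).2 fun d hd => Subgroup.mem_normalizer_iff.2 fun x => ⟨fun hx => ?_, fun hx => ?_⟩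
    · rw [inv_eq_of_mul_eq_one_right hd.2.mul_self]; exact hnorm d hd.1 hd.2 x hx
    · have h2 := hnorm d hd.1 hd.2 _ hx
      rw [inv_eq_of_mul_eq_one_right hd.2.mul_self] at h2
      have h3 : d * (d * x * d) * d = x := by
        simp only [← mul_assoc, hd.2.mul_self, one_mul]
        rw [mul_assoc, hd.2.mul_self, mul_one]
      rwa [h3] at h2
  have hNn : (N.subgroupOf ((dgen H).subgroupOf H)).Normal := by
    refine ⟨fun x hx k => ?_⟩
    have hk : ((k : ↥H) : Perm (Fin n)) ∈ dgen H := k.2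
    refine ⟨(dgen H).mul_mem ((dgen H).mul_mem hk hx.1) ((dgen H).inv_mem hk), ?_⟩
    exact (Subgroup.mem_normalizer_iff.1 (hW hk) _).1 hx.2
  have hN : N.IsSubnormal :=
    Subgroup.IsSubnormal.step _ _ (fun x hx => hx.1) (dgen_normal H).isSubnormal hNn
  have hNs : Group.IsSolvable N := by
    let f : N →* M := (H.subtype.comp N.subtype).codRestrict M fun x => x.2.2
    haveI := hM
    exact Group.isSolvable_of_isSolvable_injective (f := f) fun x y h =>
      Subtype.ext (Subtype.ext (congrArg (fun z : M => (z : Perm (Fin n))) h))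
  have h2 := (le_E_of_solvable hF hcent hN hNs).2 (show (⟨g, dgen_le H hg⟩ : ↥H) ∈ N from ⟨hg, hgM⟩)
  exact congrArg Subtype.val (Subgroup.mem_centralizer_iff.1 h2 u hu)

theorem not_solvable_E [hEn : E.Normal] (hF : Cfsg.IsQuasisimple ↥E)
    (hs : Group.IsSolvable (E.map H.subtype)) : False := by
  haveI := hs
  refine CfsgLib.Comp.quasisimple_not_solvable hF
    (Group.isSolvable_of_isSolvable_injective (f := ((H.subtype.comp E.subtype).codRestrict (E.map H.subtype)
      fun x => ⟨x, x.2, rfl⟩)) ?_)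
  intro x y h
  exact Subtype.ext (Subtype.ext (congrArg (fun z : E.map H.subtype => (z : Perm (Fin n))) h))

/-- Elements fixing every pair among the first `k` setwise. -/
def pairFix (k : ℕ) (hk : 2 * k ≤ n) : Subgroup (Perm (Fin n)) where
  carrier := {g | ∀ x : Fin n, x.val < 2 * k → g x = x ∨ g x = flipP n k x}
  one_mem' := fun _ _ => Or.inl rfl
  mul_mem' := fun {g h} hg hh x hx => by
    rw [mul_apply]
    rcases hh x hx with h1 | h1 <;> rw [h1]
    · exact hg x hx
    · have hz : (flipP n k x).val < 2 * k := by rw [flipP_val hk, if_pos hx]; split_ifs <;> omega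
      rcases hg _ hz with h2 | h2
      · exact Or.inr h2
      · exact Or.inl (by rw [h2, flipP_flipP])
  inv_mem' := fun {g} hg x hx => by
    rcases hg x hx with h1 | h1
    · exact Or.inl (Equiv.Perm.inv_eq_iff_eq.2 h1.symm)
    · have hz : (flipP n k x).val < 2 * k := by rw [flipP_val hk, if_pos hx]; split_ifs <;> omega
      rcases hg _ hz with h2 | h2
      · exact absurd (g.injective (h1.trans h2.symm)) (flipP_ne hk hx).symm
      · rw [flipP_flipP] at h2
        exact Or.inr (Equiv.Perm.inv_eq_iff_eq.2 h2.symm)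

theorem pairFix_solvable {k : ℕ} (hk : 2 * k ≤ n) (hk' : n ≤ 2 * k + 4) : Group.IsSolvable (pairFix k hk) := by
  have himg : ∀ g ∈ pairFix k hk, ∀ x : Fin n, x.val < 2 * k → (g x).val < 2 * k := by
    intro g hg x hx
    rcases hg x hx with h | h <;> rw [h]
    · exact hx
    · rw [flipP_val hk, if_pos hx]; split_ifs <;> omega
  refine solvable_of_commute_on _ (fun x => x.val < 2 * k) (fun g hg x => ⟨fun h => ?_, himg g hg x⟩) ?_
    (card_compl_le hk')
  · have := himg _ ((pairFix k hk).inv_mem hg) _ h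
    rwa [coe_inv, symm_apply_apply] at this
  · intro g hg h hh x hx
    have hz : (flipP n k x).val < 2 * k := by rw [flipP_val hk, if_pos hx]; split_ifs <;> omega
    have hkey : ∀ g ∈ pairFix k hk, g x = x → g (flipP n k x) = flipP n k x := by
      intro g hg h1
      rcases hg _ hz with h2 | h2
      · exact h2
      · rw [flipP_flipP] at h2; exact absurd (g.injective (h2.trans h1.symm)) (flipP_ne hk hx)
    have hkey2 : ∀ g ∈ pairFix k hk, g x = flipP n k x → g (flipP n k x) = x := by
      intro g hg h1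
      rcases hg _ hz with h2 | h2
      · exact absurd (g.injective (h2.trans h1.symm)) (flipP_ne hk hx)
      · rwa [flipP_flipP] at h2
    rcases hg x hx with g1 | g1 <;> rcases hh x hx with h1 | h1
    · rw [h1, g1, h1]
    · rw [h1, hkey g hg g1, g1, h1]
    · rw [h1, g1, hkey h hh h1]
    · rw [h1, hkey2 g hg g1, g1, hkey2 h hh h1]

theorem false_of_pairing [hEn : E.Normal] (hF : Cfsg.IsQuasisimple ↥E)
    (hcent : Subgroup.centralizer (E : Set ↥H) ≤ E) {k : ℕ} (h4 : 4 ≤ k) (hk : 2 * k ≤ n) (hk' : n ≤ 2 * k + 4)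
    (hC : ∀ i j, i < k → j < k → i ≠ j → cPair n i j ∈ H) (hall : ∀ d ∈ H, IsD d → Commute d (flipP n k)) :
    False := by
  have hMs := pairFix_solvable hk hk'
  have hnorm : ∀ d ∈ H, IsD d → ∀ g ∈ pairFix k hk, d * g * d ∈ pairFix k hk := by
    intro d hdH hd g hg x hx
    have hcom : ∀ y, d (flipP n k y) = flipP n k (d y) := fun y =>
      congrArg (fun g : Perm (Fin n) => g y) (hall d hdH hd).eq
    have hdd : ∀ y, d (d y) = y := fun y => congrArg (fun g : Perm (Fin n) => g y) hd.mul_self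
    have hdx : (d x).val < 2 * k := by
      by_contra hge
      have hz : flipP n k (d x) = d x := Fin.ext (by rw [flipP_val hk, if_neg hge])
      rw [← hcom] at hz
      exact flipP_ne hk hx (d.injective hz)
    simp only [mul_apply]
    rcases hg _ hdx with h | h <;> rw [h]
    · exact Or.inl (hdd x)
    · exact Or.inr (by rw [hcom, hdd])
  apply not_solvable_E (E := E) hF
  have hle : E.map H.subtype ≤ pairFix k hk := by
    rintro _ ⟨u, hu, rfl⟩ x hx
    have hi : x.val / 2 < k := by omega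
    have key : ∀ j, j < k → j ≠ x.val / 2 →
        ((u : Perm (Fin n)) x).val / 2 = x.val / 2 ∨ ((u : Perm (Fin n)) x).val / 2 = j := by
      intro j hj hne
      have hcM : cPair n (x.val / 2) j ∈ pairFix k hk := by
        intro y hy
        simp only [Fin.ext_iff, cPair_val (n := n) (i := x.val / 2) (j := j) (by omega) (by omega) (Ne.symm hne),
          flipP_val hk, if_pos hy]
        split_ifs <;> omega
      have hcW : cPair n (x.val / 2) j ∈ dgen H :=
        Subgroup.subset_closure ⟨hC _ _ hi hj (Ne.symm hne), cPair_isD (by omega) (by omega) (Ne.symm hne)⟩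
      have hcu := congrArg (fun g : Perm (Fin n) => g x) (commute_E_of_normalized hF hcent _ hMs hnorm hcW hcM hu)
      simp only [mul_apply] at hcu
      by_contra hcon
      push Not at hcon
      have hfix : cPair n (x.val / 2) j ((u : Perm (Fin n)) x) = (u : Perm (Fin n)) x :=
        Fin.ext (by rw [cPair_val (by omega) (by omega) (Ne.symm hne), if_neg (by tauto)])
      rw [hfix] at hcu
      have h7 := congrArg Fin.val ((u : Perm (Fin n)).injective hcu)
      rw [cPair_val (by omega) (by omega) (Ne.symm hne), if_pos (Or.inl rfl)] at h7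
      split_ifs at h7 <;> omega
    obtain ⟨j, j', hj, hj', hne, hne', hjj⟩ : ∃ j j', j < k ∧ j' < k ∧ j ≠ x.val / 2 ∧ j' ≠ x.val / 2 ∧ j ≠ j' := by
      by_cases h0 : x.val / 2 = 0
      · exact ⟨1, 2, by omega, by omega, by omega, by omega, by omega⟩
      · by_cases h1 : x.val / 2 = 1
        · exact ⟨0, 2, by omega, by omega, by omega, by omega, by omega⟩
        · exact ⟨0, 1, by omega, by omega, by omega, by omega, by omega⟩
    refine eq_or_eq_flipP hk hx ?_
    rcases key j hj hne with h | h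
    · exact h
    · rcases key j' hj' hne' with h' | h'
      · exact h'
      · omega
  haveI := hMs
  exact Group.isSolvable_of_isSolvable_injective (f := Subgroup.inclusion hle) (Subgroup.inclusion_injective hle)

/-- Permutations acting on the first eight points as a translation. -/
def transFix (h : 8 ≤ n) (s : Bool) : Subgroup (Perm (Fin n)) where
  carrier := {g | ∃ v : Fin 8, ∀ x : Fin 8, g (Fin.castLE h x) = Fin.castLE h (tr s v x)}
  one_mem' := ⟨0, fun x => by
    have : ∀ (s : Bool) (x : Fin 8), tr s 0 x = x := by decide +kernel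
    rw [this]; rfl⟩
  mul_mem' := fun {g k} ⟨v, hv⟩ ⟨w, hw⟩ => by
    obtain ⟨u, hu⟩ := (trans_facts s v w).1
    exact ⟨u, fun x => by rw [mul_apply, hw, hv, hu]⟩
  inv_mem' := fun {g} ⟨v, hv⟩ => ⟨v, fun x => Equiv.Perm.inv_eq_iff_eq.2 (by
    rw [hv]
    exact congrArg (Fin.castLE h) (Fin.ext (trans_invol s v x).1.symm))⟩

theorem transFix_lt {h : 8 ≤ n} {s : Bool} {g : Perm (Fin n)} (hg : g ∈ transFix h s) (x : Fin n) :
    (g x).val < 8 ↔ x.val < 8 := by
  have himg : ∀ g ∈ transFix h s, ∀ x : Fin n, x.val < 8 → (g x).val < 8 := by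
    rintro g ⟨v, hv⟩ x hx
    rw [show x = Fin.castLE h ⟨x.val, hx⟩ from rfl, hv]
    exact (tr s v _).isLt
  refine ⟨fun hh => ?_, himg g hg x⟩
  have := himg _ ((transFix h s).inv_mem hg) _ hh
  rwa [coe_inv, symm_apply_apply] at this

theorem transFix_solvable (h : 8 ≤ n) (hn : n ≤ 12) (s : Bool) : Group.IsSolvable (transFix h s) := by
  refine solvable_of_commute_on _ (fun x => x.val < 8) (fun g hg x => transFix_lt hg x) ?_ (card_compl_le (by omega))
  rintro g ⟨v, hv⟩ k ⟨w, hw⟩ x hx
  rw [show x = Fin.castLE h ⟨x.val, hx⟩ from rfl, hw, hv, hv, hw, (trans_facts s v w).2]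

theorem tr_facts : ∀ s : Bool,
    (∀ x : Fin 8, (cPair 8 0 1 * cPair 8 2 3) x = tr s 1 x) ∧
    (∀ x : Fin 8, (bif s then qQuad 8 0 * (qQuad 8 1 * cPair 8 2 3) else qQuad 8 0 * qQuad 8 1) x = tr s 2 x) ∧
    (∀ x : Fin 8, tr s 1 x ≠ x) ∧
    (∀ x y : Fin 8, x.val / 4 = y.val / 4 → y = x ∨ y = tr s 1 x ∨ y = tr s 2 x ∨ y = tr s 1 (tr s 2 x)) ∧
    (∀ x : Fin 8, (tr s 1 x).val / 4 = x.val / 4 ∧ (tr s 2 x).val / 4 = x.val / 4) := by
  decide +kernel

theorem false_of_translations [hEn : E.Normal] (hF : Cfsg.IsQuasisimple ↥E)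
    (hcent : Subgroup.centralizer (E : Set ↥H) ≤ E) (h : 8 ≤ n) (hn : n ≤ 9) (s : Bool)
    (hC : ∀ i j, i < n / 2 → j < n / 2 → i ≠ j → cPair n i j ∈ H)
    (hQ : ∀ i, i < n / 4 → qQuad n i ∈ H)
    (hall : ∀ d ∈ H, IsD d → ∃ d0 : Perm (Fin 8), emb8 h d0 = d ∧ NormT s d0) : False := by
  have hMs := transFix_solvable h (by omega) s
  have hnorm : ∀ d ∈ H, IsD d → ∀ g ∈ transFix h s, d * g * d ∈ transFix h s := by
    rintro d hdH hd g ⟨v, hv⟩
    obtain ⟨d0, rfl, hd0⟩ := hall d hdH hd
    obtain ⟨w, hw⟩ := hd0 v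
    exact ⟨w, fun x => by rw [← hw, mul_apply, mul_apply, emb8_apply, hv, emb8_apply]; rfl⟩
  obtain ⟨f1, f2, f3, f4, f5⟩ := tr_facts s
  have hW : ∀ i j, i < 4 → j < 4 → i ≠ j → emb8 h (cPair 8 i j) ∈ dgen H := fun i j hi hj hij => by
    rw [emb8_cPair h hi hj]
    exact Subgroup.subset_closure ⟨hC i j (by omega) (by omega) hij, cPair_isD (by omega) (by omega) hij⟩
  have hWq : ∀ i, i < 2 → emb8 h (qQuad 8 i) ∈ dgen H := fun i hi => by
    rw [emb8_qQuad h hi]
    exact Subgroup.subset_closure ⟨hQ i (by omega), qQuad_isD (by omega)⟩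
  have hcg : ∀ (g0 : Perm (Fin 8)) (v : Fin 8), (∀ x, g0 x = tr s v x) → emb8 h g0 ∈ dgen H →
      ∀ u ∈ E, ∀ x : Fin 8, (u : Perm (Fin n)) (Fin.castLE h (tr s v x)) =
        emb8 h g0 ((u : Perm (Fin n)) (Fin.castLE h x)) := by
    intro g0 v hg0 hgW u hu x
    have hgM : emb8 h g0 ∈ transFix h s := ⟨v, fun y => by rw [emb8_apply, hg0]⟩
    have h2 := congrArg (fun g : Perm (Fin n) => g (Fin.castLE h x))
      (commute_E_of_normalized hF hcent _ hMs hnorm hgW hgM hu)
    simp only [mul_apply] at h2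
    rwa [emb8_apply, hg0] at h2
  have hc1 := hcg _ 1 f1 (by rw [map_mul]; exact (dgen H).mul_mem (hW 0 1 (by omega) (by omega) (by omega)) (hW 2 3 (by omega) (by omega) (by omega)))
  have hc2 := hcg _ 2 f2 (by
    cases s
    · simp only [cond_false, map_mul]
      exact (dgen H).mul_mem (hWq 0 (by omega)) (hWq 1 (by omega))
    · simp only [cond_true, map_mul]
      exact (dgen H).mul_mem (hWq 0 (by omega)) ((dgen H).mul_mem (hWq 1 (by omega)) (hW 2 3 (by omega) (by omega) (by omega))))
  -- the first eight points are invariant under `E`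
  have hlow : ∀ u ∈ E, ∀ x : Fin 8, ((u : Perm (Fin n)) (Fin.castLE h x)).val < 8 := by
    intro u hu x
    by_contra hge
    have h2 := hc1 u hu x
    rw [emb8_apply_ge h _ hge] at h2
    exact f3 x (Fin.castLE_injective h ((u : Perm (Fin n)).injective h2))
  have hact : ∀ u ∈ E, ∀ x : Fin 8, ∃ y : Fin 8, (u : Perm (Fin n)) (Fin.castLE h x) = Fin.castLE h y :=
    fun u hu x => ⟨⟨_, hlow u hu x⟩, rfl⟩
  choose F hFdef using hact
  have hFc : ∀ u (hu : u ∈ E) (x : Fin 8), F u hu (tr s 1 x) = tr s 1 (F u hu x) ∧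
      F u hu (tr s 2 x) = tr s 2 (F u hu x) := by
    intro u hu x
    constructor
    · refine Fin.castLE_injective h ?_
      rw [← hFdef, hc1 u hu x, hFdef u hu x, emb8_apply, f1]
    · refine Fin.castLE_injective h ?_
      rw [← hFdef, hc2 u hu x, hFdef u hu x, emb8_apply, f2]
  have hquad : ∀ u (hu : u ∈ E) (x y : Fin 8), x.val / 4 = y.val / 4 →
      (F u hu x).val / 4 = (F u hu y).val / 4 := by
    intro u hu x y hxy
    rcases f4 x y hxy with rfl | rfl | rfl | rfl
    · rfl
    · rw [(hFc u hu x).1, (f5 _).1]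
    · rw [(hFc u hu x).2, (f5 _).2]
    · rw [(hFc u hu _).1, (hFc u hu x).2, (f5 _).1, (f5 _).2]
  have hFinj : ∀ u (hu : u ∈ E), Function.Injective (F u hu) := fun u hu x y hxy =>
    Fin.castLE_injective h ((u : Perm (Fin n)).injective (by rw [hFdef u hu, hFdef u hu, hxy]))
  have hflip : ∀ u (hu : u ∈ E) (x : Fin 8),
      (F u hu x).val / 4 = ((F u hu 0).val / 4 + x.val / 4) % 2 := by
    intro u hu x
    have hx := (F u hu x).isLt
    have h0 := (F u hu 0).isLt
    by_cases hq : x.val / 4 = 0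
    · have h2 := hquad u hu x 0 (by simpa using hq)
      omega
    · have hne : (F u hu x).val / 4 ≠ (F u hu 0).val / 4 := by
        intro heq
        have hx8 := x.isLt
        have hall' : ∀ y : Fin 8, (F u hu y).val / 4 = (F u hu 0).val / 4 := by
          intro y
          by_cases hy : y.val / 4 = 0
          · exact hquad u hu y 0 (by simpa using hy)
          · rw [hquad u hu y x (by have := y.isLt; omega), heq]
        obtain ⟨y, hy⟩ := (Finite.injective_iff_surjective.1 (hFinj u hu))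
          (if (F u hu 0).val / 4 = 0 then 4 else 0)
        have h9 := hall' y
        rw [hy] at h9
        split_ifs at h9 with h10
        · simp at h9; omega
        · simp at h9; omega
      omega
  have hFmul : ∀ u v (hu : u ∈ E) (hv : v ∈ E) (x : Fin 8),
      F (u * v) (E.mul_mem hu hv) x = F u hu (F v hv x) := by
    intro u v hu hv x
    refine Fin.castLE_injective h ?_
    rw [← hFdef (u * v) (E.mul_mem hu hv), ← hFdef u hu, ← hFdef v hv]
    rfl
  let ψ : E →* Multiplicative (ZMod 2) :=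
    MonoidHom.mk' (fun u => Multiplicative.ofAdd (((F u.1 u.2 0).val / 4 : ℕ) : ZMod 2)) fun u v => by
      rw [← ofAdd_add]
      congr 1
      have h2 : (F ((u * v : E) : ↥H) (u * v).2 0).val / 4 = ((F u.1 u.2 0).val / 4 + (F v.1 v.2 0).val / 4) % 2 := by
        show (F (u.1 * v.1) _ 0).val / 4 = _
        rw [hFmul _ _ u.2 v.2, hflip u.1 u.2 (F v.1 v.2 0)]
      rw [h2, ZMod.natCast_mod, Nat.cast_add]
  haveI : Group.IsPerfect ↥E := hF.1
  have hstay : ∀ u (hu : u ∈ E) (x : Fin 8), (F u hu x).val / 4 = x.val / 4 := by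
    intro u hu x
    have h1 : (⟨u, hu⟩ : E) ∈ ψ.ker := by
      refine Abelianization.commutator_subset_ker ψ ?_
      rw [Group.IsPerfect.commutator_eq_top]
      exact Subgroup.mem_top _
    have h0 : ((F u hu 0).val / 4 : ℕ) % 2 = 0 := by
      have := congrArg Multiplicative.toAdd (MonoidHom.mem_ker.1 h1)
      simp only [ψ, MonoidHom.mk'_apply, toAdd_ofAdd, toAdd_one] at this
      exact Nat.dvd_iff_mod_eq_zero.1 ((ZMod.natCast_eq_zero_iff _ _).1 this)
    have := (F u hu 0).isLt
    have := x.isLt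
    have := hflip u hu x
    omega
  apply not_solvable_E (E := E) hF
  refine solvable_of_commute_on _ (fun x => x.val < 8) ?_ ?_ (card_compl_le (by omega))
  · rintro _ ⟨u, hu, rfl⟩ x
    refine ⟨fun hh => ?_, fun hx => hlow u hu ⟨x.val, hx⟩⟩
    have h2 := hlow u⁻¹ (E.inv_mem hu) ⟨_, hh⟩
    rw [show (Fin.castLE h ⟨_, hh⟩ : Fin n) = (u : Perm (Fin n)) x from rfl] at h2
    simpa using h2
  · rintro _ ⟨u, hu, rfl⟩ _ ⟨v, hv, rfl⟩ x hx
    show (u : Perm (Fin n)) ((v : Perm (Fin n)) x) = (v : Perm (Fin n)) ((u : Perm (Fin n)) x)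
    rw [show x = Fin.castLE h ⟨x.val, hx⟩ from rfl, hFdef v hv, hFdef u hu, hFdef u hu, hFdef v hv]
    congr 1
    set y : Fin 8 := ⟨x.val, hx⟩
    have c21 : ∀ z, tr s 2 (tr s 1 z) = tr s 1 (tr s 2 z) := (trans_facts s 2 1).2
    rcases f4 y (F v hv y) (hstay v hv y).symm with e1 | e1 | e1 | e1 <;>
      rcases f4 y (F u hu y) (hstay u hu y).symm with e2 | e2 | e2 | e2 <;>
      simp only [e1, e2, (hFc _ _ _).1, (hFc _ _ _).2, c21]

end Cfsg.Agent.AltOvergroupTwo
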